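import Mathlib.GroupTheory.Coset.Card
import Mathlib.FieldTheory.Finite.Basic
import Mathlib.GroupTheory.OrderOfElement
import Mathlib.GroupTheory.Subgroup.Center
import Mathlib.Algebra.CharP.Two
import Mathlib.RingTheory.IntegralDomain
import Mathlib.GroupTheory.SpecificGroups.Cyclic

/-!
# The shape of the centraliser of an involution in `PGU₃(q)`, `q` even

A group of order `q³ (q + 1)` with a character `χ` onto the elements of norm one, whose kernel is a
2-group with `q - 1` central involutions, coordinates `lab` modulo the involutions and `zc` on them.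
-/

set_option autoImplicit false
set_option linter.all false

namespace CfsgLib.Known.UThreeEven

/-- The shape data. -/
structure CentShape (C : Type*) [Group C] (L : Type*) [Field L] (q : ℕ) where
  χ : C →* Lˣ
  lab : C → L
  zc : C → L
  card : Nat.card C = q ^ 3 * (q + 1)
  norm : ∀ g, (χ g : L) ^ (q + 1) = 1
  surj : ∀ u : L, u ^ (q + 1) = 1 → ∃ g, (χ g : L) = u
  lab_mul : ∀ y z, χ y = 1 → χ z = 1 → lab (y * z) = lab y + lab z
  lab_surj : ∀ b, ∃ y, χ y = 1 ∧ lab y = b
  lab_zero : ∀ y, χ y = 1 → (lab y = 0 ↔ y * y = 1)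
  lab_conj : ∀ g y, χ y = 1 → lab (g * y * g⁻¹) = χ g * lab y
  sq_one : ∀ g, g * g = 1 → χ g = 1 ∧ ∀ h, g * h = h * g
  zc_add : ∀ g h, g * g = 1 → h * h = 1 → zc (g * h) = zc g + zc h
  zc_inj : ∀ g, g * g = 1 → zc g = 0 → g = 1
  zc_sq : ∀ y, χ y = 1 → zc (y * y) = lab y ^ (q + 1)

namespace CentShape

variable {C : Type*} [Group C] {L : Type*} [Field L] {q : ℕ}

/-- Transport along an isomorphism. -/
def map {C' : Type*} [Group C'] (S : CentShape C L q) (e : C' ≃* C) : CentShape C' L q where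
  χ := S.χ.comp e.toMonoidHom
  lab := fun g => S.lab (e g)
  zc := fun g => S.zc (e g)
  card := by rw [Nat.card_congr e.toEquiv, S.card]
  norm g := S.norm _
  surj u hu := by
    obtain ⟨g, hg⟩ := S.surj u hu
    exact ⟨e.symm g, by simpa using hg⟩
  lab_mul y z hy hz := by rw [map_mul]; exact S.lab_mul _ _ hy hz
  lab_surj b := by
    obtain ⟨y, hy, hb⟩ := S.lab_surj b
    exact ⟨e.symm y, by simpa using hy, by simpa using hb⟩
  lab_zero y hy := by
    have := S.lab_zero (e y) hy
    rw [← map_mul, MulEquiv.map_eq_one_iff] at this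
    exact this
  lab_conj g y hy := by
    rw [map_mul, map_mul, map_inv]
    exact S.lab_conj _ _ hy
  sq_one g hg := by
    obtain ⟨h1, h2⟩ := S.sq_one (e g) (by rw [← map_mul, hg, map_one])
    exact ⟨h1, fun h => e.injective (by rw [map_mul, map_mul]; exact h2 _)⟩
  zc_add g h hg hh := by
    rw [map_mul]
    exact S.zc_add _ _ (by rw [← map_mul, hg, map_one]) (by rw [← map_mul, hh, map_one])
  zc_inj g hg h0 := by
    rw [← MulEquiv.map_eq_one_iff e]
    exact S.zc_inj _ (by rw [← map_mul, hg, map_one]) h0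
  zc_sq y hy := by rw [map_mul]; exact S.zc_sq _ hy

variable (S : CentShape C L q)

include S

theorem lab_one : S.lab 1 = 0 := (S.lab_zero 1 (map_one _)).2 (one_mul 1)

theorem sq_sq [CharP L 2] {y : C} (hy : S.χ y = 1) : y * y * (y * y) = 1 :=
  (S.lab_zero _ (by rw [map_mul, hy, one_mul])).1 (by
    rw [S.lab_mul y y hy hy, CharTwo.add_self_eq_zero])

theorem pow_four [CharP L 2] {y : C} (hy : S.χ y = 1) : y ^ 4 = 1 := by
  rw [show 4 = 2 + 2 by rfl, pow_add, pow_two]
  exact S.sq_sq hy

theorem units_norm (g : C) : S.χ g ^ (q + 1) = 1 := by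
  ext
  rw [Units.val_pow_eq_pow_val, S.norm, Units.val_one]

theorem chi_eq_one_of_pow_two (hq : Even q) {g : C} {k : ℕ} (hg : g ^ 2 ^ k = 1) : S.χ g = 1 := by
  have h1 : (S.χ g) ^ 2 ^ k = 1 := by rw [← map_pow, hg, map_one]
  have hco : Nat.Coprime (2 ^ k) (q + 1) :=
    Nat.Coprime.pow_left _ ((Nat.Prime.coprime_iff_not_dvd Nat.prime_two).2
      (by rw [← even_iff_two_dvd]; exact Nat.not_even_iff_odd.2 hq.add_one))
  exact orderOf_eq_one_iff.1 (Nat.eq_one_of_dvd_coprimes hco
    (orderOf_dvd_of_pow_eq_one h1) (orderOf_dvd_of_pow_eq_one (S.units_norm g)))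

theorem chi_eq_one_iff [CharP L 2] (hq : Even q) {g : C} : S.χ g = 1 ↔ g ^ 4 = 1 :=
  ⟨fun h => S.pow_four h, fun h => S.chi_eq_one_of_pow_two hq (k := 2) h⟩

/-- A nontrivial value of `χ` leaves only involutions centralised. -/
theorem sq_eq_one_of_commute {g y : C} (hg : S.χ g ≠ 1) (hy : S.χ y = 1) (h : g * y = y * g) :
    y * y = 1 := by
  refine (S.lab_zero y hy).1 ?_
  have h1 := S.lab_conj g y hy
  rw [h, mul_inv_cancel_right] at h1
  by_contra hne
  exact hg (Units.ext (mul_right_cancel₀ hne (by rw [Units.val_one, one_mul, ← h1])))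

variable [Fintype L] (hL : Fintype.card L = q ^ 2)
include hL

theorem card_range_chi : Nat.card S.χ.range = q + 1 := by
  classical
  have h1 : S.χ.range = (powMonoidHom (q + 1) : Lˣ →* Lˣ).ker := by
    ext u
    rw [MonoidHom.mem_ker, powMonoidHom_apply]
    constructor
    · rintro ⟨g, rfl⟩
      exact S.units_norm g
    · intro hu
      obtain ⟨g, hg⟩ := S.surj (u : L) (by rw [← Units.val_pow_eq_pow_val, hu, Units.val_one])
      exact ⟨g, Units.ext hg⟩
  rw [h1, IsCyclic.card_powMonoidHom_ker, Nat.card_units, Nat.card_eq_fintype_card, hL,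
    show q ^ 2 - 1 = (q + 1) * (q - 1) by rw [← Nat.sq_sub_sq, one_pow]]
  exact Nat.gcd_eq_right (dvd_mul_right _ _)

theorem card_ker : Nat.card S.χ.ker = q ^ 3 := by
  have h := Subgroup.card_mul_index S.χ.ker
  rw [Subgroup.index_ker, S.card_range_chi hL, S.card] at h
  exact Nat.eq_of_mul_eq_mul_right (Nat.succ_pos q) h

theorem two_le_q : 2 ≤ q := by
  have h := Fintype.one_lt_card (α := L)
  rw [hL] at h
  by_contra hq
  interval_cases q <;> simp at h

theorem card_sq_one [Finite C] : Nat.card {g : C // g * g = 1} = q := by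
  have hq := S.two_le_q hL
  let l : S.χ.ker →* Multiplicative L :=
    { toFun := fun y => Multiplicative.ofAdd (S.lab y)
      map_one' := by simp [S.lab_one]
      map_mul' := fun y z => by
        rw [← ofAdd_add]
        exact congrArg _ (S.lab_mul y z y.2 z.2) }
  have hl : Function.Surjective l := fun b => by
    obtain ⟨y, hy, hb⟩ := S.lab_surj b.toAdd
    exact ⟨⟨y, hy⟩, by show Multiplicative.ofAdd (S.lab y) = b; rw [hb]; exact ofAdd_toAdd b⟩
  have h := Subgroup.card_mul_index l.ker
  rw [Subgroup.index_ker, MonoidHom.range_eq_top.2 hl, Subgroup.card_top, S.card_ker hL,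
    Nat.card_congr Multiplicative.toAdd, Nat.card_eq_fintype_card (α := L), hL] at h
  have h2 : Nat.card l.ker = q := by
    refine Nat.eq_of_mul_eq_mul_right (show 0 < q ^ 2 by positivity) ?_
    rw [h]; ring
  rw [← h2]
  refine (Nat.card_congr (Equiv.ofBijective
    (fun y : l.ker => (⟨(y.1 : C), (S.lab_zero y.1 y.1.2).1
      (Multiplicative.ofAdd.injective (MonoidHom.mem_ker.1 y.2))⟩ : {g : C // g * g = 1}))
    ⟨fun y z e => Subtype.ext (Subtype.ext (by simpa using congrArg Subtype.val e)), fun g => ⟨⟨⟨g.1,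
      (S.sq_one g.1 g.2).1⟩, ?_⟩, rfl⟩⟩)).symm
  rw [MonoidHom.mem_ker]
  show Multiplicative.ofAdd (S.lab g.1) = 1
  rw [(S.lab_zero g.1 (S.sq_one g.1 g.2).1).2 g.2, ofAdd_zero]

/-- Every involution is a square. -/
theorem exists_sqrt [Finite C] [CharP L 2] {s : C} (hs : s * s = 1) :
    ∃ y, S.χ y = 1 ∧ y * y = s := by
  classical
  have hq := S.two_le_q hL
  haveI := Fintype.ofFinite C
  let A : Finset C := Finset.univ.filter fun g => g * g = 1
  let B : Finset C := (Finset.univ.filter fun y => S.χ y = 1).image fun y => y * y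
  let N : Finset L := Finset.univ.image fun b : L => b ^ (q + 1)
  have hA : A.card = q := by
    rw [← S.card_sq_one hL, Nat.card_eq_fintype_card, Fintype.card_subtype]
  have hN : q ≤ N.card := by
    have h1 : Nat.card (powMonoidHom (q + 1) : Lˣ →* Lˣ).range = q - 1 := by
      rw [IsCyclic.card_powMonoidHom_range, Nat.card_units, Nat.card_eq_fintype_card, hL,
        show q ^ 2 - 1 = (q + 1) * (q - 1) by rw [← Nat.sq_sub_sq, one_pow],
        Nat.gcd_eq_right (dvd_mul_right _ _), Nat.mul_div_cancel_left _ (Nat.succ_pos q)]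
    haveI : Fintype Lˣ := Fintype.ofFinite _
    let M : Finset Lˣ := Finset.univ.filter fun u : Lˣ => u ∈ (powMonoidHom (q + 1) : Lˣ →* Lˣ).range
    have hM : M.card = q - 1 := by
      rw [← h1, Nat.card_eq_fintype_card, Fintype.card_subtype]
    have hsub : insert (0 : L) (M.image fun u : Lˣ => (u : L)) ⊆ N := by
      intro x hx
      rw [Finset.mem_image]
      rcases Finset.mem_insert.1 hx with rfl | hx
      · exact ⟨0, Finset.mem_univ _, zero_pow (by omega)⟩
      · obtain ⟨u, hu, rfl⟩ := Finset.mem_image.1 hx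
        obtain ⟨v, rfl⟩ := (Finset.mem_filter.1 hu).2
        exact ⟨v, Finset.mem_univ _, by simp⟩
    have h2 := Finset.card_le_card hsub
    rw [Finset.card_insert_of_notMem (by simp), Finset.card_image_of_injective _ Units.val_injective,
      hM] at h2
    omega
  have hBA : B ⊆ A := by
    intro g hg
    obtain ⟨y, hy, rfl⟩ := Finset.mem_image.1 hg
    exact Finset.mem_filter.2 ⟨Finset.mem_univ _, S.sq_sq (Finset.mem_filter.1 hy).2⟩
  have hNB : N ⊆ B.image S.zc := by
    intro x hx
    obtain ⟨b, -, rfl⟩ := Finset.mem_image.1 hx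
    obtain ⟨y, hy, rfl⟩ := S.lab_surj b
    exact Finset.mem_image.2 ⟨y * y, Finset.mem_image.2 ⟨y, by simp [hy], rfl⟩, S.zc_sq y hy⟩
  have hBeq : B = A := Finset.eq_of_subset_of_card_le hBA
    (by rw [hA]; exact hN.trans ((Finset.card_le_card hNB).trans Finset.card_image_le))
  have : s ∈ B := hBeq ▸ Finset.mem_filter.2 ⟨Finset.mem_univ _, hs⟩
  obtain ⟨y, hy, e⟩ := Finset.mem_image.1 this
  exact ⟨y, (Finset.mem_filter.1 hy).2, e⟩

end CentShape

end CfsgLib.Known.UThreeEven
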