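import Cfsg.Agent.Lib.Perm.RankOne.UnitalModel
import Cfsg.Agent.Lib.Classical.Unitary.DetQuot
import Cfsg.Agent.Lib.Known.UThreeEven.Shape

/-!
# `PGU₃(q)`, `q` even, on the unital, and the centraliser of an elation
-/

set_option autoImplicit false
set_option linter.all false

namespace CfsgLib.Known.UThreeEven

open CfsgLib.Classical CfsgLib.Classical.Herm CfsgLib.Perm.RankOne.Unital
open CfsgLib.Fusion.PSU (revB revB_apply isHerm)
open scoped LinearAlgebra.Projectivization

section Pts

variable {F : Type*} [Field F] {V : Type*} [AddCommGroup V] [Module F V] {σ : F →+* F}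
  {B : V →ₛₗ[σ] V →ₗ[F] F}

/-- The isotropic points, as a set stable under the whole isometry group. -/
def isoPtsU (B : V →ₛₗ[σ] V →ₗ[F] F) : SubMulAction (HU B) (ℙ F V) where
  carrier := {p | B p.rep p.rep = 0}
  smul_mem' g p hp := by
    have hv : (g : V ≃ₗ[F] V) p.rep ≠ 0 := by simpa using p.rep_nonzero
    have hgp : g • p = Projectivization.mk F ((g : V ≃ₗ[F] V) p.rep) hv := by
      conv_lhs => rw [← p.mk_rep]
      exact (Projectivization.mk_eq_mk_iff' F _ _ _ _).2 ⟨1, one_smul _ _⟩
    obtain ⟨a, ha⟩ := Projectivization.exists_smul_eq_mk_rep F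
      ((g : V ≃ₗ[F] V) p.rep) hv
    rw [← hgp] at ha
    show B (g • p).rep (g • p).rep = 0
    rw [← ha, Units.smul_def, smul_left, smul_right, HU.map_eq, hp, mul_zero, mul_zero]

end Pts

variable {F : Type*} [Field F] [Fintype F] [CharP F 2] {q : ℕ} (hF : Fintype.card F = q ^ 2)
include hF

/-- The points as elements of `isoPtsU`. -/
noncomputable def toPointU (p : Option (Pt F q)) : isoPtsU (form hF) :=
  ⟨(toPoint hF p).1, (toPoint hF p).2⟩

theorem toPointU_bijective : Function.Bijective (toPointU hF) := by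
  constructor
  · intro p r h
    exact (toPoint_bijective hF).1 (Subtype.ext (congrArg Subtype.val h :))
  · intro x
    obtain ⟨p, hp⟩ := (toPoint_bijective hF).2 ⟨x.1, x.2⟩
    exact ⟨p, Subtype.ext (congrArg Subtype.val hp :)⟩

/-- The points of the unital are the isotropic points. -/
noncomputable def pointEquivU : Option (Pt F q) ≃ isoPtsU (form hF) :=
  Equiv.ofBijective _ (toPointU_bijective hF)

/-- The action of the unitary group on the unital. -/
noncomputable def actU : HU (form hF) →* Equiv.Perm (Option (Pt F q)) :=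
  (pointEquivU hF).symm.permCongrHom.toMonoidHom.comp
    (MulAction.toPermHom (HU (form hF)) (isoPtsU (form hF)))

theorem actU_eq_iff {g : HU (form hF)} {p r : Option (Pt F q)} :
    actU hF g p = r ↔ ∃ a : F, a ≠ 0 ∧ (g : (Fin 3 → F) ≃ₗ[F] (Fin 3 → F)) (vec p) = a • vec r := by
  have h0 : (g : (Fin 3 → F) ≃ₗ[F] (Fin 3 → F)) (vec p) ≠ 0 := by
    simpa using vec_ne_zero (q := q) p
  have e : (g • toPointU hF p).1 =
      Projectivization.mk F ((g : (Fin 3 → F) ≃ₗ[F] (Fin 3 → F)) (vec p)) h0 := by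
    show g • Projectivization.mk F (vec p) (vec_ne_zero p) = _
    exact (Projectivization.mk_eq_mk_iff' F _ _ _ _).2 ⟨1, one_smul _ _⟩
  have h : actU hF g p = r ↔ g • toPointU hF p = toPointU hF r :=
    (pointEquivU hF).symm_apply_eq
  rw [h, ← Subtype.val_inj, e]
  show Projectivization.mk F _ _ = Projectivization.mk F (vec r) (vec_ne_zero r) ↔ _
  rw [Projectivization.mk_eq_mk_iff']
  constructor
  · rintro ⟨a, ha⟩
    refine ⟨a, ?_, ha.symm⟩
    rintro rfl
    exact h0 (by rw [← ha, zero_smul])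
  · rintro ⟨a, -, ha⟩
    exact ⟨a, ha.symm⟩

theorem actU_eq {g : HU (form hF)} {p r : Option (Pt F q)} (a : F) (ha : a ≠ 0)
    (h : (g : (Fin 3 → F) ≃ₗ[F] (Fin 3 → F)) (vec p) = a • vec r) : actU hF g p = r :=
  (actU_eq_iff hF).2 ⟨a, ha, h⟩

theorem actU_coe (g : HSU (form hF)) : actU hF (g : HU (form hF)) = actHom hF g := by
  ext1 p
  have e : g • toPoint hF p = toPoint hF (actHom hF g p) := by
    rw [actHom_apply]
    exact ((pointEquiv hF).apply_symm_apply _).symm
  refine (pointEquivU hF).symm_apply_eq.2 (Subtype.ext ?_)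
  exact (congrArg Subtype.val e :)

/-- The image of the unitary group. -/
noncomputable abbrev pgu : Subgroup (Equiv.Perm (Option (Pt F q))) := (actU hF).range

theorem modelGroup_le_pgu (hq : q ≠ 2) : modelGroup hF ≤ pgu hF := by
  rw [← range_actHom hF hq]
  rintro _ ⟨g, rfl⟩
  exact ⟨g, actU_coe hF g⟩

/-- The linear map `diag (1, u, 1)`. -/
def diagLin (u : F) : (Fin 3 → F) →ₗ[F] (Fin 3 → F) where
  toFun v := ![v 0, u * v 1, v 2]
  map_add' v w := by
    funext i
    fin_cases i <;> simp <;> ring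
  map_smul' k v := by
    funext i
    fin_cases i <;> simp <;> ring

/-- The isometry `diag (1, u, 1)`. -/
noncomputable def diagIso (u : F) (hu : u ^ (q + 1) = 1) : HU (form hF) :=
  (isHerm_form hF).ofPreserves (diagLin u) fun v w => by
    simp only [revB_three, diagLin, LinearMap.coe_mk, AddHom.coe_mk, powHom_apply,
      Matrix.cons_val_zero, Matrix.cons_val_one, Matrix.cons_val_two, Matrix.head_cons,
      Matrix.tail_cons]
    rw [pow_succ] at hu
    linear_combination (v 1 ^ q * w 1) * hu

theorem diag_mem_pt {u : F} (hu : u ^ (q + 1) = 1) (p : Pt F q) :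
    p.1.1 + p.1.1 ^ q + (u * p.1.2) ^ (q + 1) = 0 := by
  rw [mul_pow, hu, one_mul]; exact p.2

/-- `(x, z) ↦ (x, u z)` on the finite points. -/
def diagPt (u : F) (hu : u ^ (q + 1) = 1) (p : Pt F q) : Pt F q :=
  ⟨(p.1.1, u * p.1.2), diag_mem_pt hF hu p⟩

/-- The permutation of `diag (1, u, 1)`. -/
noncomputable def diagPerm (u : F) (hu : u ^ (q + 1) = 1) : Equiv.Perm (Option (Pt F q)) :=
  actU hF (diagIso hF u hu)

theorem diagPerm_none (u : F) (hu : u ^ (q + 1) = 1) : diagPerm hF u hu none = none :=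
  actU_eq hF 1 one_ne_zero (by
    rw [one_smul]
    show diagLin u (vec none) = _
    funext i
    fin_cases i <;> simp [diagLin, vec])

theorem diagPerm_some (u : F) (hu : u ^ (q + 1) = 1) (p : Pt F q) :
    diagPerm hF u hu (some p) = some (diagPt hF u hu p) :=
  actU_eq hF 1 one_ne_zero (by
    rw [one_smul]
    show diagLin u (vec (some p)) = _
    funext i
    fin_cases i <;> simp [diagLin, diagPt, vec])

theorem diag_mem (u : F) (hu : u ^ (q + 1) = 1) : diagPerm hF u hu ∈ pgu hF := ⟨_, rfl⟩

theorem trans_mem_pgu (s : Pt F q) : transPerm hF s ∈ pgu hF :=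
  ⟨_, (actU_coe hF _).trans (actHom_trans hF s)⟩

theorem swap_mem_pgu : swapPerm hF ∈ pgu hF := ⟨_, (actU_coe hF _).trans (actHom_swap hF)⟩

/-- `PGU₃` is generated by the translations, the swap and the diagonal elements. -/
theorem pgu_le (hq : q ≠ 2) {P : Subgroup (Equiv.Perm (Option (Pt F q)))}
    (ht : ∀ s, transPerm hF s ∈ P) (hs : swapPerm hF ∈ P)
    (hd : ∀ u (hu : u ^ (q + 1) = 1), diagPerm hF u hu ∈ P) : pgu hF ≤ P := by
  have hm : modelGroup hF ≤ P := by
    rw [modelGroup, Subgroup.closure_le]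
    rintro π (⟨s, rfl⟩ | rfl)
    · exact ht s
    · exact hs
  rintro _ ⟨g, rfl⟩
  have hdet := (isHerm_form hF).det_norm_one g
  rw [powHom_apply, ← pow_succ'] at hdet
  set u : F := Units.val ((HU.det (form hF) g)⁻¹) with hu
  have hu1 : u ^ (q + 1) = 1 := by rw [hu, Units.val_inv_eq_inv_val, inv_pow, hdet, inv_one]
  have hdd : HU.det (form hF) (diagIso hF u hu1) = (HU.det (form hF) g)⁻¹ := by
    ext
    show ((LinearEquiv.det (diagIso hF u hu1 : (Fin 3 → F) ≃ₗ[F] (Fin 3 → F)) : Fˣ) : F) = u
    rw [LinearEquiv.coe_det]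
    show LinearMap.det (diagLin u) = u
    rw [← LinearMap.det_toMatrix', Matrix.det_fin_three]
    simp [LinearMap.toMatrix'_apply, diagLin]
  have hmem : g * diagIso hF u hu1 ∈ HSU (form hF) := by
    rw [MonoidHom.mem_ker, map_mul, hdd, mul_inv_cancel]
  have h1 : actU hF (g * diagIso hF u hu1) ∈ P := hm (by
    rw [← range_actHom hF hq]
    exact ⟨⟨_, hmem⟩, (actU_coe hF ⟨_, hmem⟩).symm⟩)
  rw [map_mul] at h1
  exact (Subgroup.mul_mem_cancel_right P (hd u hu1)).1 h1

theorem fix_diag {g : HU (form hF)} (h0 : actU hF g none = none)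
    (h2 : actU hF g (some (zeroPt hF)) = some (zeroPt hF)) :
    ∃ a b d : F, d ^ q * a = 1 ∧ b ^ (q + 1) = 1 ∧
      ∀ v : Fin 3 → F, (g : (Fin 3 → F) ≃ₗ[F] (Fin 3 → F)) v = ![a * v 0, b * v 1, d * v 2] := by
  obtain ⟨a, ha, hga⟩ := (actU_eq_iff hF).1 h0
  obtain ⟨d, hd, hgd⟩ := (actU_eq_iff hF).1 h2
  set G := (g : (Fin 3 → F) ≃ₗ[F] (Fin 3 → F))
  have hq := q_ne_zero hF
  have hn : vec (none : Option (Pt F q)) = Pi.single 0 1 := by
    funext i; fin_cases i <;> simp [vec]
  have hz : vec (some (zeroPt hF) : Option (Pt F q)) = Pi.single 2 1 := by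
    funext i; fin_cases i <;> simp [vec, zeroPt]
  rw [hn] at hga
  rw [hz] at hgd
  set w := G (Pi.single 1 1) with hw
  have key : ∀ x y, form hF (G x) (G y) = form hF x y := fun x y => HU.map_eq g x y
  have e1 := key (Pi.single 0 1) (Pi.single 1 1)
  have e2 := key (Pi.single 2 1) (Pi.single 1 1)
  have e3 := key (Pi.single 2 1) (Pi.single 0 1)
  have e4 := key (Pi.single 1 1) (Pi.single 1 1)
  rw [hga, ← hw] at e1
  rw [hgd, ← hw] at e2
  rw [hgd, hga] at e3
  rw [← hw] at e4
  simp [revB_three, hq] at e1 e2 e3 e4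
  have w2 : w 2 = 0 := by tauto
  have w0 : w 0 = 0 := by tauto
  simp [w2, w0, hq] at e4
  refine ⟨a, w 1, d, (mul_comm _ _).trans e3, by rw [pow_succ]; exact e4, fun v => ?_⟩
  have hv : v = v 0 • Pi.single 0 1 + v 1 • Pi.single 1 1 + v 2 • Pi.single 2 1 := by
    funext i; fin_cases i <;> simp
  conv_lhs => rw [hv, map_add, map_add, map_smul, map_smul, map_smul, hga, hgd, ← hw]
  funext i
  fin_cases i <;> simp [w0, w2, mul_comm]

theorem exists_pt (z : F) : ∃ x : F, x + x ^ q + z ^ (q + 1) = 0 := by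
  obtain ⟨x, hx⟩ := (powHom_isInvol hF).exists_trace_eq (μ := z ^ (q + 1)) (by
    rw [powHom_apply, pow_succ, mul_pow, pow_pow_self hF, mul_comm])
  rw [powHom_apply] at hx
  exact ⟨x, by rw [hx]; exact CharTwo.add_self_eq_zero _⟩

theorem card_Pt : Nat.card (Pt F q) = q ^ 3 := by
  classical
  choose x0 hx0 using exists_pt hF
  have e : F × fixedSub (powHom hF) ≃ Pt F q :=
    { toFun := fun p => ⟨(x0 p.1 + p.2, p.1), by
        have hr : (p.2 : F) ^ q = p.2 := p.2.2
        show x0 p.1 + p.2 + (x0 p.1 + p.2) ^ q + p.1 ^ (q + 1) = 0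
        rw [pow_add hF, hr]
        linear_combination hx0 p.1 + (p.2 : F) * two_eq_zero (F := F)⟩
      invFun := fun p => (p.1.2, ⟨p.1.1 + x0 p.1.2, by
        rw [mem_fixedSub, powHom_apply, pow_add hF]
        linear_combination p.2 + hx0 p.1.2 -
          (p.1.1 + x0 p.1.2 + p.1.2 ^ (q + 1)) * two_eq_zero (F := F)⟩)
      left_inv := fun p => Prod.ext rfl (Subtype.ext (by
        show x0 p.1 + p.2 + x0 p.1 = p.2
        linear_combination x0 p.1 * two_eq_zero (F := F)))
      right_inv := fun p => Subtype.ext (Prod.ext (by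
        show x0 p.1.2 + (p.1.1 + x0 p.1.2) = p.1.1
        linear_combination x0 p.1.2 * two_eq_zero (F := F)) rfl) }
  rw [← Nat.card_congr e, Nat.card_prod, card_fixed_powHom hF, Nat.card_eq_fintype_card, hF]
  ring

theorem card_norm_one : Nat.card {u : F // u ^ (q + 1) = 1} = q + 1 := by
  have e : {u : F // u ^ (q + 1) = 1} ≃ (powMonoidHom (q + 1) : Fˣ →* Fˣ).ker :=
    { toFun := fun u => ⟨Units.mk0 u.1 (fun h => by
          have := u.2
          rw [h, zero_pow (by omega)] at this
          exact zero_ne_one this), by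
        rw [MonoidHom.mem_ker]; ext; simpa using u.2⟩
      invFun := fun u => ⟨((u : Fˣ) : F), by
        rw [← Units.val_pow_eq_pow_val, show (u : Fˣ) ^ (q + 1) = 1 from u.2, Units.val_one]⟩
      left_inv := fun u => rfl
      right_inv := fun u => Subtype.ext (Units.ext rfl) }
  rw [Nat.card_congr e, IsCyclic.card_powMonoidHom_ker, Nat.card_units, Nat.card_eq_fintype_card, hF,
    show q ^ 2 - 1 = (q + 1) * (q - 1) by rw [← Nat.sq_sub_sq, one_pow]]
  exact Nat.gcd_eq_right (dvd_mul_right _ _)

/-- The elation `(x, z) ↦ (x + 1, z)`. -/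
def onePt : Pt F q := ⟨(1, 0), by
  rw [one_pow, zero_pow (by omega), add_zero]; exact CharTwo.add_self_eq_zero 1⟩

/-- The elation as an element of `PGU₃`. -/
noncomputable def elation : pgu hF := ⟨transPerm hF (onePt : Pt F q), trans_mem_pgu hF _⟩

theorem transPerm_mul (s s' : Pt F q) :
    transPerm hF s * transPerm hF s' = transPerm hF (transFun hF s s') := by
  ext1 p
  rcases p with _ | p
  · simp [transPerm_none]
  · rw [Equiv.Perm.mul_apply, transPerm_some, transPerm_some, transPerm_some]
    refine congrArg some (Subtype.ext (Prod.ext ?_ ?_))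
    · simp only [transFun]
      rw [pow_add hF]
      ring
    · simp only [transFun]
      ring

theorem diag_mul_trans (u : F) (hu : u ^ (q + 1) = 1) (s : Pt F q) :
    diagPerm hF u hu * transPerm hF s = transPerm hF (diagPt hF u hu s) * diagPerm hF u hu := by
  ext1 p
  rcases p with _ | p
  · simp [transPerm_none, diagPerm_none]
  · rw [Equiv.Perm.mul_apply, Equiv.Perm.mul_apply, transPerm_some, diagPerm_some, diagPerm_some,
      transPerm_some]
    refine congrArg some (Subtype.ext (Prod.ext ?_ ?_))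
    · simp only [transFun, diagPt]
      rw [pow_succ] at hu
      rw [mul_pow]
      linear_combination -(s.1.2 ^ q * p.1.2) * hu
    · simp only [transFun, diagPt]
      ring

theorem diag_mul_diag (u v : F) (hu : u ^ (q + 1) = 1) (hv : v ^ (q + 1) = 1) :
    diagPerm hF u hu * diagPerm hF v hv = diagPerm hF (u * v) (by rw [mul_pow, hu, hv, one_mul]) := by
  ext1 p
  rcases p with _ | p
  · simp [diagPerm_none]
  · rw [Equiv.Perm.mul_apply, diagPerm_some, diagPerm_some, diagPerm_some]
    exact congrArg some (Subtype.ext (Prod.ext rfl (mul_assoc u v _).symm))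

/-- `(s, u)` as a permutation. -/
noncomputable def borel (p : Pt F q × {u : F // u ^ (q + 1) = 1}) : Equiv.Perm (Option (Pt F q)) :=
  transPerm hF p.1 * diagPerm hF p.2.1 p.2.2

theorem borel_some (p : Pt F q × {u : F // u ^ (q + 1) = 1}) (r : Pt F q) :
    borel hF p (some r) = some (transFun hF p.1 (diagPt hF p.2.1 p.2.2 r)) := by
  rw [borel, Equiv.Perm.mul_apply, diagPerm_some, transPerm_some]

theorem borel_injective : Function.Injective (borel hF) := by
  rintro ⟨s, u⟩ ⟨s', u'⟩ h
  have h0 := congrArg (fun π : Equiv.Perm (Option (Pt F q)) => π (some (zeroPt hF))) h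
  simp only [borel_some, Option.some.injEq] at h0
  have hs : s = s' := by
    have := congrArg Subtype.val h0
    simp [transFun, diagPt, zeroPt] at this
    exact Subtype.ext this
  subst hs
  obtain ⟨x, hx⟩ := exists_pt hF 1
  have h1 := congrArg (fun π : Equiv.Perm (Option (Pt F q)) => π (some ⟨(x, 1), hx⟩)) h
  simp only [borel_some, Option.some.injEq] at h1
  have := congrArg (fun p : Pt F q => p.1.2) h1
  simp [transFun, diagPt] at this
  exact Prod.ext rfl (Subtype.ext this)

theorem borel_mul (p r : Pt F q × {u : F // u ^ (q + 1) = 1}) :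
    borel hF p * borel hF r = borel hF (transFun hF p.1 (diagPt hF p.2.1 p.2.2 r.1),
      ⟨p.2.1 * r.2.1, by rw [mul_pow, p.2.2, r.2.2, one_mul]⟩) := by
  simp only [borel]
  rw [mul_assoc, ← mul_assoc (diagPerm hF _ _), diag_mul_trans, mul_assoc, diag_mul_diag,
    ← mul_assoc, transPerm_mul]

theorem borel_commute (p : Pt F q × {u : F // u ^ (q + 1) = 1}) :
    borel hF p * transPerm hF (onePt : Pt F q) = transPerm hF (onePt : Pt F q) * borel hF p := by
  ext1 r
  rcases r with _ | r
  · simp [borel, transPerm_none, diagPerm_none]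
  · simp only [Equiv.Perm.mul_apply, transPerm_some, borel_some]
    refine congrArg some (Subtype.ext (Prod.ext ?_ ?_))
    · simp [transFun, diagPt, onePt, q_ne_zero hF]; ring
    · simp [transFun, diagPt, onePt, q_ne_zero hF]

theorem mem_centralizer_elation {π : pgu hF} :
    π ∈ Subgroup.centralizer ({elation hF} : Set (pgu hF)) ↔ ∃ p, borel hF p = π := by
  rw [Subgroup.mem_centralizer_singleton_iff, ← Subtype.val_inj]
  constructor
  · intro hc
    change π.1 * transPerm hF (onePt : Pt F q) = transPerm hF (onePt : Pt F q) * π.1 at hc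
    have hnone : π.1 none = none := by
      have h1 := congrArg (fun e : Equiv.Perm (Option (Pt F q)) => e none) hc
      simp only [Equiv.Perm.mul_apply, transPerm_none] at h1
      rcases hpn : π.1 none with _ | r
      · rfl
      · rw [hpn, transPerm_some, Option.some.injEq] at h1
        have := congrArg (fun p : Pt F q => p.1.1) h1
        simp [transFun, onePt, q_ne_zero hF] at this
    rcases hpz : π.1 (some (zeroPt hF)) with _ | s
    · exact absurd (π.1.injective (hpz.trans hnone.symm)) (by simp)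
    obtain ⟨g, hg⟩ := π.2
    set π' := (transPerm hF s)⁻¹ * π.1 with hπ'
    have hmem : π' ∈ pgu hF := mul_mem (inv_mem (trans_mem_pgu hF s)) π.2
    obtain ⟨g', hg'⟩ := hmem
    have hn' : π' none = none := by
      rw [hπ', Equiv.Perm.mul_apply, hnone, Equiv.Perm.inv_eq_iff_eq, transPerm_none]
    have hz' : π' (some (zeroPt hF)) = some (zeroPt hF) := by
      rw [hπ', Equiv.Perm.mul_apply, hpz, Equiv.Perm.inv_eq_iff_eq, transPerm_some]
      exact congrArg some (Subtype.ext (by simp [transFun, zeroPt]))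
    obtain ⟨a, b, d, had, hb, hv⟩ := fix_diag hF (g := g') (by rw [hg']; exact hn')
      (by rw [hg']; exact hz')
    have hd0 : d ≠ 0 := fun h => by simp [h, q_ne_zero hF] at had
    -- `π'` commutes with the elation
    have hcomm : π' * transPerm hF (onePt : Pt F q) = transPerm hF (onePt : Pt F q) * π' := by
      have hts : transPerm hF s * transPerm hF (onePt : Pt F q) =
          transPerm hF (onePt : Pt F q) * transPerm hF s := by
        have := borel_commute hF (s, ⟨1, one_pow _⟩)
        have h1 : borel hF (s, ⟨1, one_pow _⟩) = transPerm hF s := by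
          ext1 r
          rcases r with _ | r
          · simp [borel, transPerm_none, diagPerm_none]
          · rw [borel_some, transPerm_some]; simp [diagPt]
        rwa [h1] at this
      rw [hπ', mul_assoc, hc, ← mul_assoc, ← mul_assoc]
      congr 1
      rw [inv_mul_eq_iff_eq_mul, ← mul_assoc, hts, mul_inv_cancel_right]
    have hone : π' (some (onePt : Pt F q)) = some (onePt : Pt F q) := by
      have h1 := congrArg (fun e : Equiv.Perm (Option (Pt F q)) => e (some (zeroPt hF))) hcomm
      simp only [Equiv.Perm.mul_apply, hz', transPerm_some] at h1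
      have e0 : transFun hF (onePt : Pt F q) (zeroPt hF) = (onePt : Pt F q) :=
        Subtype.ext (by simp [transFun, zeroPt, onePt])
      rwa [e0] at h1
    rw [← hg'] at hone
    obtain ⟨c, hc0, hcv⟩ := (actU_eq_iff hF).1 hone
    rw [hv] at hcv
    have c0 := congrFun hcv 0
    have c2 := congrFun hcv 2
    simp [vec, onePt] at c0 c2
    have hbd : (b / d) ^ (q + 1) = 1 := by
      rw [div_pow, hb]
      subst c2
      rw [c0, ← pow_succ] at had
      rw [had, div_one]
    refine ⟨(s, ⟨b / d, hbd⟩), ?_⟩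
    have : π' = diagPerm hF (b / d) hbd := by
      ext1 r
      rw [← hg']
      refine actU_eq hF d hd0 ?_
      rw [hv, c0, ← c2]
      rcases r with _ | r
      · rw [diagPerm_none]; funext i; fin_cases i <;> simp [vec]
      · rw [diagPerm_some]; funext i; fin_cases i <;> simp [vec, diagPt] <;> field_simp
    show transPerm hF s * diagPerm hF (b / d) hbd = π.1
    rw [← this, hπ', mul_inv_cancel_left]
  · rintro ⟨p, hp⟩
    show (π : Equiv.Perm (Option (Pt F q))) * transPerm hF (onePt : Pt F q) = transPerm hF (onePt : Pt F q) * (π : Equiv.Perm (Option (Pt F q)))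
    rw [← hp]
    exact borel_commute hF p

/-- The centraliser of the elation has the shape. -/
theorem nonempty_shape : Nonempty (CentShape (Subgroup.centralizer ({elation hF} : Set (pgu hF))) F q) := by
  classical
  set C := Subgroup.centralizer ({elation hF} : Set (pgu hF))
  let bor : Pt F q × {u : F // u ^ (q + 1) = 1} → C := fun p =>
    ⟨⟨borel hF p, mul_mem (trans_mem_pgu hF _) (diag_mem hF _ _)⟩,
      (mem_centralizer_elation hF).2 ⟨p, rfl⟩⟩
  have hbij : Function.Bijective bor :=
    ⟨fun p r h => borel_injective hF (congrArg (fun x : C => ((x : pgu hF) : Equiv.Perm (Option (Pt F q)))) h),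
      fun π => by
        obtain ⟨p, hp⟩ := (mem_centralizer_elation hF).1 π.2
        exact ⟨p, Subtype.ext (Subtype.ext hp)⟩⟩
  let e := Equiv.ofBijective bor hbij
  have hsymm : ∀ p, e.symm (bor p) = p := fun p => e.symm_apply_apply p
  have hbor : ∀ π, bor (e.symm π) = π := fun π => e.apply_symm_apply π
  have hmul : ∀ p r, bor p * bor r = bor (transFun hF p.1 (diagPt hF p.2.1 p.2.2 r.1),
      ⟨p.2.1 * r.2.1, by rw [mul_pow, p.2.2, r.2.2, one_mul]⟩) := fun p r =>
    Subtype.ext (Subtype.ext (borel_mul hF p r))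
  let one : Pt F q × {u : F // u ^ (q + 1) = 1} := (zeroPt hF, ⟨1, one_pow _⟩)
  have hone : bor one = 1 := by
    refine mul_left_cancel (a := bor one) ?_
    rw [mul_one, hmul]
    congr 1
    exact Prod.ext (Subtype.ext (by simp [one, transFun, diagPt, zeroPt, q_ne_zero hF]))
      (Subtype.ext (mul_one _))
  have hu0 : ∀ u : {u : F // u ^ (q + 1) = 1}, (u : F) ≠ 0 := fun u h => by
    have := u.2
    rw [h, zero_pow (by omega)] at this
    exact zero_ne_one this
  let χ : C →* Fˣ :=
    { toFun := fun π => Units.mk0 (e.symm π).2.1 (hu0 _)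
      map_one' := by
        ext; show ((e.symm 1).2 : F) = 1
        rw [← hone, hsymm]
      map_mul' := fun π π' => by
        ext
        show ((e.symm (π * π')).2 : F) = (e.symm π).2 * (e.symm π').2
        conv_lhs => rw [← hbor π, ← hbor π', hmul, hsymm] }
  have hχ : ∀ p, (χ (bor p) : F) = p.2.1 := fun p => by
    show ((e.symm (bor p)).2 : F) = _
    rw [hsymm]
  have hker : ∀ y, χ y = 1 → ∃ s, y = bor (s, ⟨1, one_pow _⟩) := fun y hy => by
    refine ⟨(e.symm y).1, ?_⟩
    conv_lhs => rw [← hbor y]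
    congr 1
    exact Prod.ext rfl (Subtype.ext (congrArg Units.val hy))
  have hsq : ∀ g : C, g * g = 1 → ∃ s : Pt F q, s.1.2 = 0 ∧ g = bor (s, ⟨1, one_pow _⟩) := by
    intro g hg
    obtain ⟨⟨s, u⟩, rfl⟩ := hbij.2 g
    rw [hmul, ← hone] at hg
    have he := hbij.1 hg
    have hu : (u : F) = 1 := by
      have h1 : (u : F) * u = 1 := congrArg (fun p : Pt F q × {u : F // u ^ (q + 1) = 1} => (p.2 : F)) he
      have h2 : ((u : F) + 1) * (u + 1) = 0 := by
        linear_combination h1 + ((u : F) + 1) * two_eq_zero (F := F)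
      exact CharTwo.add_eq_zero.1 (mul_self_eq_zero.1 h2)
    refine ⟨s, ?_, congrArg bor (Prod.ext rfl (Subtype.ext hu))⟩
    have h1 := congrArg (fun p : Pt F q × {u : F // u ^ (q + 1) = 1} => p.1.1.1) he
    simp [one, transFun, diagPt, zeroPt, hu, CharTwo.add_self_eq_zero, q_ne_zero hF] at h1
    exact h1
  refine ⟨{
    χ := χ
    lab := fun π => (e.symm π).1.1.2
    zc := fun π => (e.symm π).1.1.1
    card := ?_
    norm := fun π => (e.symm π).2.2
    surj := fun u hu => ⟨bor (zeroPt hF, ⟨u, hu⟩), hχ _⟩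
    lab_mul := ?_
    lab_surj := ?_
    lab_zero := ?_
    lab_conj := ?_
    sq_one := ?_
    zc_add := ?_
    zc_inj := ?_
    zc_sq := ?_ }⟩
  · rw [Nat.card_congr e.symm, Nat.card_prod, card_Pt hF, card_norm_one hF]
  · intro y z hy hz
    obtain ⟨s, rfl⟩ := hker y hy
    obtain ⟨s', rfl⟩ := hker z hz
    simp only [hmul, hsymm]
    simp [transFun, diagPt]
    ring
  · intro b
    obtain ⟨x, hx⟩ := exists_pt hF b
    refine ⟨bor (⟨(x, b), hx⟩, ⟨1, one_pow _⟩), Units.ext (hχ _), ?_⟩
    rw [hsymm]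
  · intro y hy
    obtain ⟨s, rfl⟩ := hker y hy
    rw [hsymm, hmul, ← hone]
    constructor
    · intro h0
      congr 1
      refine Prod.ext (Subtype.ext ?_) (Subtype.ext (mul_one _))
      simp only at h0
      simp [one, transFun, diagPt, zeroPt, h0, q_ne_zero hF, CharTwo.add_self_eq_zero]
    · intro he
      have h1 := congrArg (fun p : Pt F q × {u : F // u ^ (q + 1) = 1} => p.1.1.1) (hbij.1 he)
      simp [one, transFun, diagPt, zeroPt, CharTwo.add_self_eq_zero, q_ne_zero hF] at h1
      exact h1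
  · intro g y hy
    obtain ⟨s, rfl⟩ := hker y hy
    obtain ⟨⟨t, u⟩, rfl⟩ := hbij.2 g
    obtain ⟨⟨t', u'⟩, ht'⟩ := hbij.2 (bor (t, u))⁻¹
    have hinv := mul_inv_cancel (bor (t, u))
    rw [← ht', hmul, ← hone] at hinv
    have h1 := congrArg (fun p : Pt F q × {u : F // u ^ (q + 1) = 1} => p.1.1.2) (hbij.1 hinv)
    simp [one, transFun, diagPt, zeroPt] at h1
    rw [← ht', hmul, hmul, hsymm, hsymm]
    simp [transFun, diagPt, hχ]
    linear_combination h1
  · intro g hg
    obtain ⟨s, hs, rfl⟩ := hsq g hg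
    refine ⟨Units.ext (hχ _), fun h => ?_⟩
    obtain ⟨⟨t, u⟩, rfl⟩ := hbij.2 h
    rw [hmul, hmul]
    congr 1
    refine Prod.ext (Subtype.ext ?_) (Subtype.ext (mul_comm _ _))
    simp [transFun, diagPt, hs, q_ne_zero hF, add_comm]
  · intro g h hg hh
    obtain ⟨s, hs, rfl⟩ := hsq g hg
    obtain ⟨s', hs', rfl⟩ := hsq h hh
    simp only [hmul, hsymm]
    simp [transFun, diagPt, hs, hs', q_ne_zero hF]
    ring
  · intro g hg h0
    obtain ⟨s, hs, rfl⟩ := hsq g hg
    rw [hsymm] at h0
    rw [← hone]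
    congr 1
    exact Prod.ext (Subtype.ext (Prod.ext h0 hs)) rfl
  · intro y hy
    obtain ⟨s, rfl⟩ := hker y hy
    simp only [hmul, hsymm]
    simp [transFun, diagPt, pow_succ, CharTwo.add_self_eq_zero]

theorem elation_order : orderOf (elation hF) = 2 := by
  refine orderOf_eq_prime ?_ ?_
  · rw [pow_two]
    refine Subtype.ext ?_
    show transPerm hF (onePt : Pt F q) * transPerm hF (onePt : Pt F q) = 1
    rw [transPerm_mul]
    ext1 r
    rcases r with _ | r
    · simp [transPerm_none]
    · rw [transPerm_some, Equiv.Perm.one_apply]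
      exact congrArg some (Subtype.ext (by simp [transFun, onePt, q_ne_zero hF, CharTwo.add_self_eq_zero]))
  · intro h
    have := congrArg (fun e : pgu hF => (e : Equiv.Perm _) (some (zeroPt hF))) h
    simp [elation, transPerm_some, transFun, onePt, zeroPt] at this

theorem ker_actU : (actU hF).ker = Subgroup.center (HU (form hF)) := by
  have h := isHerm_form hF
  ext g
  rw [MonoidHom.mem_ker]
  constructor
  · intro hg
    obtain ⟨a, b, d, -, -, hv⟩ := fix_diag hF (g := g) (by rw [hg]; rfl) (by rw [hg]; rfl)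
    obtain ⟨x, hx⟩ := exists_pt hF 1
    obtain ⟨c, -, hc⟩ := (actU_eq_iff hF).1 (show actU hF g (some ⟨(x, 1), hx⟩) = some ⟨(x, 1), hx⟩ by
      rw [hg]; rfl)
    rw [hv] at hc
    have c0 := congrFun hc 0
    have c1 := congrFun hc 1
    have c2 := congrFun hc 2
    simp [vec] at c0 c1 c2
    have hx0 : x ≠ 0 := by
      rintro rfl
      simp [q_ne_zero hF] at hx
    have hac : a = c := c0.resolve_right hx0
    rw [Subgroup.mem_center_iff]
    intro k
    ext1
    refine LinearEquiv.ext fun v => ?_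
    have hgv : ∀ w, (g : (Fin 3 → F) ≃ₗ[F] (Fin 3 → F)) w = c • w := fun w => by
      rw [hv, hac, c1, c2]
      funext i; fin_cases i <;> simp
    show k.1 (g.1 v) = g.1 (k.1 v)
    rw [hgv, hgv, map_smul]
  · intro hg
    obtain ⟨a, ha, hga⟩ := h.eigen_of_mem_center_HU (by rw [Module.finrank_fin_fun]; norm_num) hg
    ext1 p
    exact actU_eq hF a (left_ne_zero_of_mul_eq_one ha) (hga _)

/-- `PGU₃(q)` as the group of the unital. -/
theorem nonempty_pgu_equiv :
    Nonempty ((↥(Cfsg.GU 3 F q) ⧸ Subgroup.center ↥(Cfsg.GU 3 F q)) ≃* pgu hF) := by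
  obtain ⟨e, he⟩ := IsHerm.exists_isometry_of_finrank_eq (hermStd_isHerm (n := 3) hF)
    (isHerm_form hF) rfl
  let E : HU (hermStd 3 hF) ≃* HU (form hF) :=
    isoCongrEq (f := fun u v => hermStd 3 hF u v) (f' := fun u v => form hF u v) e he
  let ε : Cfsg.GU 3 F q ≃* HU (form hF) := (guEquiv 3 hF).trans E
  exact ⟨((QuotientGroup.congr _ _ ε (map_center_of_equiv ε)).trans
    (QuotientGroup.quotientMulEquivOfEq (ker_actU hF).symm)).trans
    (QuotientGroup.quotientKerEquivRange _)⟩

end CfsgLib.Known.UThreeEven
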