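import Cfsg.Agent.Lib.Known.UThreeEven.Setup
import Cfsg.Agent.Lib.Known.UThreeEven.Model
import Cfsg.Agent.Lib.Lie.RankOneClass.Ident.Setup
import Cfsg.Agent.Lib.Lie.RankOneClass.Ident.Translation

/-!
# Identification of the group with `PGU₃(q)`
-/

set_option autoImplicit false
set_option linter.all false

namespace CfsgLib.Known.UThreeEven

open MulAction Subgroup CfsgLib.Lie.RankOne CfsgLib.Lie.RankOneClass CfsgLib.Lie.RankOneClass.Ident
  CfsgLib.Classical CfsgLib.Classical.Herm CfsgLib.Perm.RankOne.Unital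

universe u

section

variable {G : Type u} [Group G] [Finite G] {Ω : Type u} [MulAction G Ω] [FaithfulSMul G Ω] {a : Ω}
  {t : G} {Q : Subgroup G} {L : Type} [Field L] [Fintype L] [CharP L 2] {q : ℕ}
  (hL : Fintype.card L = q ^ 2) [Fintype (fixedSub (powHom hL))]
  (U : UData G Ω a t Q L (powHom hL))

include U

theorem onU_pt (p : Pt L q) : OnU (powHom hL) p.1 := by
  show p.1.1 + powHom hL p.1.1 + p.1.2 * powHom hL p.1.2 = 0
  rw [powHom_apply, powHom_apply, ← pow_succ']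
  exact p.2

theorem pt_of_onU {p : L × L} (hp : OnU (powHom hL) p) : p.1 + p.1 ^ q + p.2 ^ (q + 1) = 0 := by
  have h : p.1 + powHom hL p.1 + p.2 * powHom hL p.2 = 0 := hp
  rwa [powHom_apply, powHom_apply, ← pow_succ'] at h

theorem coords_bijective : Function.Bijective
    (fun o : Option (Pt L q) => o.elim a fun p => U.Phi p.1) := by
  constructor
  · rintro (_ | p) (_ | r) e
    · rfl
    · exact absurd e.symm (U.Phi_ne_a (onU_pt hL U r))
    · exact absurd e (U.Phi_ne_a (onU_pt hL U p))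
    · exact congrArg some (Subtype.ext (U.Phi_inj (onU_pt hL U p) (onU_pt hL U r) e))
  · intro ω
    by_cases hω : ω = a
    · exact ⟨none, hω.symm⟩
    · obtain ⟨p, hp, e⟩ := U.exists_Phi hω
      exact ⟨some ⟨p, pt_of_onU hL U hp⟩, e⟩

/-- The points as points of the unital. -/
noncomputable def coords : Option (Pt L q) ≃ Ω := Equiv.ofBijective _ (coords_bijective hL U)

theorem coords_none : coords hL U none = a := rfl

theorem coords_some (p : Pt L q) : coords hL U (some p) = U.Phi p.1 := rfl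

/-- The action in coordinates. -/
noncomputable def rep : G →* Equiv.Perm (Option (Pt L q)) :=
  (coords hL U).symm.permCongrHom.toMonoidHom.comp (MulAction.toPermHom G Ω)

theorem rep_eq {g : G} {π : Equiv.Perm (Option (Pt L q))}
    (h : ∀ o, g • coords hL U o = coords hL U (π o)) : rep hL U g = π :=
  Equiv.ext fun o => (coords hL U).symm_apply_eq.2 (h o)

theorem rep_injective : Function.Injective (rep hL U) := by
  intro g k e
  refine eq_of_smul_eq_smul (α := Ω) fun ω => ?_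
  obtain ⟨o, rfl⟩ := (coords hL U).surjective ω
  exact (coords hL U).symm.injective (congrArg (fun π : Equiv.Perm (Option (Pt L q)) => π o) e :)

theorem rep_t : rep hL U t = swapPerm hL := by
  refine rep_eq hL U fun o => ?_
  rw [swapPerm_apply]
  rcases o with _ | p
  · exact U.Phi_origin.symm
  · by_cases hp : p.1.1 = 0
    · rw [swapFun_zero hL hp, eq_zeroPt hL hp, coords_none, coords_some,
        show (zeroPt hL).1 = ((0 : L), (0 : L)) from rfl, U.Phi_origin, t_smul_ta U.D.hS]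
    · obtain ⟨r, hr, e⟩ := swapFun_some hL hp
      rw [e, coords_some, coords_some, U.t_Phi (onU_pt hL U p) hp, hr]
      congr 1
      exact Prod.ext (one_div _) rfl

theorem rep_Q {y : G} (hy : y ∈ Q) :
    rep hL U y = transPerm hL ⟨U.sv y, pt_of_onU hL U (U.sv_spec hy).1⟩ := by
  refine rep_eq hL U fun o => ?_
  rcases o with _ | p
  · rw [transPerm_none]; exact Q_fix U.D.hS hy
  · rw [transPerm_some, coords_some, coords_some, (U.acts hy (onU_pt hL U p) : _ = _)]
    rfl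

theorem exists_rep_trans (s : Pt L q) : ∃ y ∈ Q, rep hL U y = transPerm hL s := by
  obtain ⟨y, hy, e⟩ := U.exists_Q _ (onU_pt hL U s)
  refine ⟨y, hy, (rep_Q hL U hy).trans ?_⟩
  congr 1
  apply Subtype.ext
  show U.crd (y • (t • a)) = s.1
  rw [e, U.crd_Phi (onU_pt hL U s)]

theorem rep_W (hcomm : ∀ v ∈ Wg a t, ∀ w ∈ Wg a t, v * w = w * v) {w : G} (hw : w ∈ Wg a t) :
    ∃ (μ : L) (hμ : μ ^ (q + 1) = 1), appL (U.D.rho U.hN U.hc w) U.e = sc μ U.e ∧
      rep hL U w = diagPerm hL μ⁻¹ (by rw [inv_pow, hμ, inv_one]) := by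
  obtain ⟨μ, hμ⟩ := U.toEData.scale_of_commute hw U.hw0 (hcomm _ hw _ U.hw0) U.heig
    (fun h => U.hζ (h ▸ one_mem _))
  obtain ⟨hn, hpt⟩ := U.toEData.W_pt hw hμ
  have hμ1 : μ ^ (q + 1) = 1 := by
    rwa [powHom_apply, ← pow_succ'] at hn
  have hμ0 : μ ≠ 0 := fun h => by rw [h, zero_mul] at hn; exact zero_ne_one hn
  refine ⟨μ, hμ1, hμ, rep_eq hL U fun o => ?_⟩
  rcases o with _ | p
  · rw [diagPerm_none]; exact U.D.W_fix_line hw U.D.mem_line_a
  · rw [diagPerm_some, coords_some, coords_some]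
    have hp := onU_pt hL U p
    by_cases hz : p.1.2 = 0
    · rw [U.D.W_fix_line hw ((U.Phi_mem_line hp).2 hz)]
      congr 1
      exact Prod.ext rfl (by simp [diagPt, hz])
    · rw [U.Phi_ne hz, U.Phi_ne (p := (diagPt hL μ⁻¹ _ p).1) (mul_ne_zero (inv_ne_zero hμ0) hz),
        hpt _ (U.tr_of_onU hp hz)]
      congr 1
      simp only [sc, diagPt]
      refine Prod.ext ?_ ?_ <;> field_simp

theorem exists_rep_diag (hcomm : ∀ v ∈ Wg a t, ∀ w ∈ Wg a t, v * w = w * v)
    (hW : Nat.card (Wg a t) = q + 1) (u : L) (hu : u ^ (q + 1) = 1) :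
    ∃ w ∈ Wg a t, rep hL U w = diagPerm hL u hu := by
  classical
  choose μ hμ1 hμ hrep using fun w : Wg a t => rep_W hL U hcomm w.2
  let f : Wg a t → {u : L // u ^ (q + 1) = 1} := fun w =>
    ⟨(μ w)⁻¹, by rw [inv_pow, hμ1 w, inv_one]⟩
  have hinj : Function.Injective f := fun v w e => by
    have e' : μ v = μ w := inv_injective (congrArg Subtype.val e)
    exact Subtype.ext (U.toEData.rho_inj v.2 w.2 (U.toEData.ext_e (by rw [hμ v, hμ w, e'])))
  have hbij : Function.Bijective f :=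
    (Nat.bijective_iff_injective_and_card f).2 ⟨hinj, by rw [hW, card_norm_one hL]⟩
  obtain ⟨w, hw⟩ := hbij.2 ⟨u, hu⟩
  refine ⟨w.1, w.2, (hrep w).trans ?_⟩
  congr 1
  exact congrArg Subtype.val hw

theorem rep_range (hq : q ≠ 2) (hcomm : ∀ v ∈ Wg a t, ∀ w ∈ Wg a t, v * w = w * v)
    (hW : Nat.card (Wg a t) = q + 1)
    (hdec : ∀ d ∈ stabilizer G a ⊓ stabilizer G (t • a), ∃ i ∈ Cfsg.invertedBy
      (stabilizer G a ⊓ stabilizer G (t • a)) t, ∃ w ∈ Wg a t, d = i * w) :
    (rep hL U).range = pgu hL := by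
  have ht : rep hL U t ∈ pgu hL := by rw [rep_t]; exact swap_mem_pgu hL
  have hQ : ∀ y ∈ Q, rep hL U y ∈ pgu hL := fun y hy => by
    rw [rep_Q hL U hy]; exact trans_mem_pgu hL _
  have hline : U.D.lineGroup ≤ (pgu hL).comap (rep hL U) := by
    rw [LineData.lineGroup, Subgroup.closure_le]
    rintro g (⟨x, rfl⟩ | rfl)
    · exact hQ _ (U.D.C.z_mem_Q U.D.hS x)
    · exact ht
  have hstab : ∀ g ∈ stabilizer G a, rep hL U g ∈ pgu hL := by
    intro g hg
    have hne : g • (t • a) ≠ a := fun e =>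
      t_smul_ne U.D.hS (smul_left_cancel g (e.trans (mem_stabilizer_iff.1 hg).symm))
    obtain ⟨y, hy, e⟩ := exists_smul_eq_ta U.D.hS hne
    have hd : y⁻¹ * g ∈ stabilizer G a ⊓ stabilizer G (t • a) := by
      refine Subgroup.mem_inf.2 ⟨mul_mem (inv_mem (U.D.hS.le hy)) hg, mem_stabilizer_iff.2 ?_⟩
      rw [mul_smul, ← e, inv_smul_smul]
    obtain ⟨i, hi, w, hw, e2⟩ := hdec _ hd
    obtain ⟨l, rfl⟩ := U.D.C.k_surj i hi
    rw [show g = y * (U.D.C.k l * w) by rw [← e2, mul_inv_cancel_left], map_mul, map_mul]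
    refine mul_mem (hQ y hy) (mul_mem ?_ ?_)
    · rw [U.D.k_units]; exact hline (U.D.k_mem_lineGroup _)
    · obtain ⟨μ, hμ, -, e3⟩ := rep_W hL U hcomm hw
      rw [e3]; exact diag_mem hL _ _
  refine le_antisymm ?_ (pgu_le hL hq (fun s => ?_) ⟨t, rep_t hL U⟩ fun u hu => ?_)
  · rintro _ ⟨g, rfl⟩
    by_cases hg : g • a = a
    · exact hstab g hg
    · obtain ⟨y, hy, e⟩ := exists_smul_eq_ta U.D.hS hg
      have h2 : (y * t)⁻¹ * g ∈ stabilizer G a := by
        rw [mem_stabilizer_iff, mul_smul, ← e, ← mul_smul y t a, inv_smul_smul]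
      rw [show g = y * t * ((y * t)⁻¹ * g) by group, map_mul, map_mul]
      exact mul_mem (mul_mem (hQ y hy) ht) (hstab _ h2)
  · obtain ⟨y, -, e⟩ := exists_rep_trans hL U s
    exact ⟨y, e⟩
  · obtain ⟨w, -, e⟩ := exists_rep_diag hL U hcomm hW u hu
    exact ⟨w, e⟩

end

universe v

theorem Hyp.nonempty_equiv {G : Type u} [Group G] [Finite G] {F : Type v} [Field F] [Fintype F]
    [CharP F 2] {q : ℕ} (h : Hyp G F q) {L : Type} [Field L] [Fintype L] [CharP L 2]
    (hL : Fintype.card L = q ^ 2) : Nonempty (G ≃* pgu hL) := by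
  classical
  haveI := h.faithful
  haveI : Fintype (fixedSub (powHom hL)) := Fintype.ofFinite _
  obtain ⟨z, hz⟩ := h.exists_inv
  obtain ⟨a, -⟩ := h.exists_point hz
  obtain ⟨b, hb⟩ := h.exists_ne a
  obtain ⟨t, ht⟩ := h.exists_swap hb.symm
  have hab := hb.symm
  have hS := h.setup hab ht
  have hF : Nat.card (fixedSub (powHom hL)) = qq G a := by rw [h.qq_eq, card_fixed_powHom hL]
  have hC : ∀ w ∈ Wg a t, w ≠ 1 → ∀ y ∈ (a : Subgroup G), w * y = y * w →
      y = 1 ∨ y ∈ Cfsg.involutionsIn (stabilizer G a : Set G) :=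
    fun w hw hw1 y hy hc => h.Wg_fix_Q hab ht hw hw1 hy hc
  have hW := h.card_Wg hab ht
  have hWne : Wg (a := a) t ≠ ⊥ := fun e => by
    rw [e, Subgroup.card_bot] at hW
    have := h.two_lt
    omega
  obtain ⟨⟨w, hw⟩, hw1'⟩ := Subgroup.ne_bot_iff_exists_ne_one.1 hWne
  have hw1 : w ≠ 1 := fun e => hw1' (Subtype.ext e)
  obtain ⟨D⟩ := exists_lineData hS h.klein hF hw hw1 (hC w hw hw1)
  obtain ⟨U⟩ := exists_udata (powHom_isInvol hL) D (by
    rw [h.card_sylow, ← Nat.card_eq_fintype_card, card_fixed_powHom hL]) hC hWne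
  have hr := rep_range hL U (by have := h.two_lt; omega) (fun v hv w hw => h.Wg_comm hab ht hv hw) hW
    (fun d hd => by
      obtain ⟨x, hx⟩ := h.exists_J a
      obtain ⟨i, hi, f, hf, hii, hfc, e⟩ := h.decomp hab ht hx (by rwa [← ht.2])
      exact ⟨i, ⟨by rwa [ht.2], hii⟩, f, (h.mem_Wg_iff hab ht hx).2 ⟨hf, hfc⟩, e⟩)
  exact ⟨(MonoidHom.ofInjective (rep_injective hL U)).trans (MulEquiv.subgroupCongr hr)⟩

end CfsgLib.Known.UThreeEven
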