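import Cfsg.Agent.Lib.Known.UThreeEven.Shape
import Mathlib.GroupTheory.Sylow
import Mathlib.GroupTheory.PGroup
import Mathlib.GroupTheory.GroupAction.Quotient

/-!
# Groups with an involution centraliser of the shape: the Sylow 2-subgroups
-/

set_option autoImplicit false
set_option linter.all false

namespace CfsgLib.Known.UThreeEven

open MulAction Subgroup
open scoped Pointwise

universe u v

/-- The hypotheses. -/
structure Hyp (G : Type u) [Group G] (L : Type v) [Field L] [Fintype L] (q : ℕ) : Prop where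
  card_L : Fintype.card L = q ^ 2
  two_lt : 2 < q
  even_q : Even q
  even : Even (Nat.card G)
  conj : ∀ s t : G, orderOf s = 2 → orderOf t = 2 → IsConj s t
  notNormal : ∀ P : Sylow 2 G, ¬ (P : Subgroup G).Normal
  shape : ∀ x : G, orderOf x = 2 → Nonempty (CentShape (centralizer ({x} : Set G)) L q)

variable {G : Type u} [Group G] [Finite G] {L : Type v} [Field L] [Fintype L] [CharP L 2] {q : ℕ}

theorem orderOf_two_iff {x : G} : orderOf x = 2 ↔ x * x = 1 ∧ x ≠ 1 := by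
  rw [orderOf_eq_prime_iff, pow_two]

/-- The involutions of a Sylow subgroup. -/
abbrev J (a : Sylow 2 G) : Type u := {y : G // y ∈ (a : Subgroup G) ∧ orderOf y = 2}

theorem conj_orderOf (g y : G) : orderOf (g * y * g⁻¹) = orderOf y :=
  MulEquiv.orderOf_eq (MulAut.conj g) y

theorem mem_smul_sylow {a : Sylow 2 G} {g y : G} :
    g * y * g⁻¹ ∈ ((g • a : Sylow 2 G) : Subgroup G) ↔ y ∈ (a : Subgroup G) := by
  rw [Sylow.coe_subgroup_smul, Subgroup.mem_pointwise_smul_iff_inv_smul_mem]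
  simp [MulAut.smul_def, MulAut.conj_inv_apply, mul_assoc]

namespace Hyp

variable (h : Hyp G L q)
include h

theorem q_two_pow : ∃ n, 2 ≤ n ∧ q = 2 ^ n := by
  obtain ⟨m, -, hm⟩ := FiniteField.card L 2
  rw [h.card_L] at hm
  obtain ⟨n, hn, e⟩ := (Nat.dvd_prime_pow Nat.prime_two).1
    (show q ∣ 2 ^ (m : ℕ) by rw [← hm, pow_two]; exact dvd_mul_right _ _)
  refine ⟨n, ?_, e⟩
  by_contra hn2
  have := h.two_lt
  interval_cases n <;> simp [e] at this

/-- The shape of a centraliser. -/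
noncomputable def shp {x : G} (hx : orderOf x = 2) : CentShape (centralizer ({x} : Set G)) L q :=
  (h.shape x hx).some

theorem card_cent {x : G} (hx : orderOf x = 2) :
    Nat.card (centralizer ({x} : Set G)) = q ^ 3 * (q + 1) := (h.shp hx).card

theorem central {x y g : G} (hx : orderOf x = 2) (hy : y * y = 1)
    (hyc : y ∈ centralizer ({x} : Set G)) (hg : g ∈ centralizer ({x} : Set G)) : y * g = g * y :=
  congrArg Subtype.val (((h.shp hx).sq_one ⟨y, hyc⟩ (Subtype.ext hy)).2 ⟨g, hg⟩)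

theorem cent_eq {x y : G} (hx : orderOf x = 2) (hy : orderOf y = 2)
    (hc : y ∈ centralizer ({x} : Set G)) :
    centralizer ({y} : Set G) = centralizer ({x} : Set G) :=
  (eq_of_le_of_card_ge (fun g hg => mem_centralizer_singleton_iff.2
    (h.central hx (orderOf_two_iff.1 hy).1 hc hg).symm) (by rw [h.card_cent hx, h.card_cent hy])).symm

/-- The normal Sylow 2-subgroup of a centraliser. -/
noncomputable def Qs {x : G} (hx : orderOf x = 2) : Subgroup G :=
  (h.shp hx).χ.ker.map (centralizer ({x} : Set G)).subtype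

theorem mem_Qs {x g : G} (hx : orderOf x = 2) :
    g ∈ h.Qs hx ↔ g ∈ centralizer ({x} : Set G) ∧ g ^ 4 = 1 := by
  constructor
  · rintro ⟨g, hg, rfl⟩
    exact ⟨g.2, congrArg Subtype.val (((h.shp hx).chi_eq_one_iff h.even_q).1 hg)⟩
  · rintro ⟨hg, h4⟩
    exact ⟨⟨g, hg⟩, ((h.shp hx).chi_eq_one_iff h.even_q).2 (Subtype.ext (by simpa using h4)), rfl⟩

theorem card_Qs {x : G} (hx : orderOf x = 2) : Nat.card (h.Qs hx) = q ^ 3 :=
  (Nat.card_congr ((h.shp hx).χ.ker.equivMapOfInjective _ Subtype.val_injective).toEquiv).symm.trans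
    ((h.shp hx).card_ker h.card_L)

theorem two_pow_mem_Qs {x g : G} (hx : orderOf x = 2) (hg : g ∈ centralizer ({x} : Set G)) {k : ℕ}
    (hk : g ^ 2 ^ k = 1) : g ∈ h.Qs hx :=
  ⟨⟨g, hg⟩, (h.shp hx).chi_eq_one_of_pow_two h.even_q (k := k) (Subtype.ext (by simpa using hk)), rfl⟩

theorem Qs_pgroup {x : G} (hx : orderOf x = 2) : IsPGroup 2 (h.Qs hx) := fun g =>
  ⟨2, Subtype.ext (by simpa using ((h.mem_Qs hx).1 g.2).2)⟩

theorem Qs_le {x : G} (hx : orderOf x = 2) : h.Qs hx ≤ centralizer ({x} : Set G) := fun g hg =>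
  ((h.mem_Qs hx).1 hg).1

theorem exists_inv : ∃ x : G, orderOf x = 2 :=
  haveI : Fact (Nat.Prime 2) := ⟨Nat.prime_two⟩
  exists_prime_orderOf_dvd_card' 2 (even_iff_two_dvd.1 h.even)

theorem exists_central (S : Sylow 2 G) : ∃ z, orderOf z = 2 ∧ (S : Subgroup G) ≤ centralizer ({z} : Set G) := by
  haveI : Fact (Nat.Prime 2) := ⟨Nat.prime_two⟩
  have hdvd : 2 ∣ Nat.card (S : Subgroup G) := S.dvd_card_of_dvd_card (even_iff_two_dvd.1 h.even)
  have hnt : Nontrivial (S : Subgroup G) := by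
    rw [← Finite.one_lt_card_iff_nontrivial]
    exact lt_of_lt_of_le one_lt_two (Nat.le_of_dvd Nat.card_pos hdvd)
  haveI := S.2.center_nontrivial
  obtain ⟨k, hk⟩ := IsPGroup.iff_card.1 (S.2.to_subgroup (Subgroup.center (S : Subgroup G)))
  have h1 : 1 < Nat.card (Subgroup.center (S : Subgroup G)) := Finite.one_lt_card
  obtain ⟨z, hz⟩ := exists_prime_orderOf_dvd_card' 2 (show 2 ∣ Nat.card (Subgroup.center (S : Subgroup G)) by
    rw [hk] at h1 ⊢
    exact dvd_pow_self 2 (by rintro rfl; simp at h1))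
  refine ⟨((z : (S : Subgroup G)) : G), by rw [Subgroup.orderOf_coe, Subgroup.orderOf_coe]; exact hz,
    fun g hg => ?_⟩
  exact mem_centralizer_singleton_iff.2 (congrArg Subtype.val (Subgroup.mem_center_iff.1 z.2 ⟨g, hg⟩))

theorem sylow_le_Qs {S : Sylow 2 G} {z : G} (hz : orderOf z = 2)
    (hle : (S : Subgroup G) ≤ centralizer ({z} : Set G)) : (S : Subgroup G) ≤ h.Qs hz := fun g hg => by
  obtain ⟨k, hk⟩ := S.2 ⟨g, hg⟩
  exact h.two_pow_mem_Qs hz (hle hg) (k := k) (by simpa using congrArg Subtype.val hk)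

theorem card_sylow (S : Sylow 2 G) : Nat.card (S : Subgroup G) = q ^ 3 := by
  haveI : Fact (Nat.Prime 2) := ⟨Nat.prime_two⟩
  obtain ⟨z, hz, hle⟩ := h.exists_central S
  rw [← h.card_Qs hz, ← S.is_maximal' (h.Qs_pgroup hz) (h.sylow_le_Qs hz hle)]

theorem sylow_eq {S : Sylow 2 G} {x : G} (hx : orderOf x = 2) (hxS : x ∈ (S : Subgroup G)) :
    (S : Subgroup G) = h.Qs hx := by
  obtain ⟨z, hz, hle⟩ := h.exists_central S
  have hc := h.cent_eq hz hx (hle hxS)
  exact eq_of_le_of_card_ge (h.sylow_le_Qs hx (hc ▸ hle)) (by rw [h.card_sylow, h.card_Qs])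

theorem exists_point {x : G} (hx : orderOf x = 2) : ∃ a : Sylow 2 G, x ∈ (a : Subgroup G) := by
  obtain ⟨a, ha⟩ := (h.Qs_pgroup hx).exists_le_sylow
  refine ⟨a, ha ((h.mem_Qs hx).2 ⟨mem_centralizer_singleton_iff.2 rfl, ?_⟩)⟩
  rw [show 4 = 2 * 2 by rfl, pow_mul, pow_two x, (orderOf_two_iff.1 hx).1, one_pow]

theorem unique_point {x : G} (hx : orderOf x = 2) {a b : Sylow 2 G} (ha : x ∈ (a : Subgroup G))
    (hb : x ∈ (b : Subgroup G)) : a = b :=
  Sylow.ext ((h.sylow_eq hx ha).trans (h.sylow_eq hx hb).symm)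

theorem fix_iff {x : G} (hx : orderOf x = 2) {b : Sylow 2 G} : x • b = b ↔ x ∈ (b : Subgroup G) := by
  haveI : Fact (Nat.Prime 2) := ⟨Nat.prime_two⟩
  rw [Sylow.smul_eq_iff_mem_normalizer]
  refine ⟨fun hn => ?_, fun hb => le_normalizer hb⟩
  have hp : IsPGroup 2 (zpowers x) := IsPGroup.of_card (n := 1) (by rw [Nat.card_zpowers, hx, pow_one])
  have := hp.inf_normalizer_sylow b
  exact (this.le ⟨mem_zpowers x, hn⟩).2

theorem cent_le_stab {x : G} (hx : orderOf x = 2) {a : Sylow 2 G} (ha : x ∈ (a : Subgroup G)) :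
    centralizer ({x} : Set G) ≤ stabilizer G a := fun g hg => by
  have hgx : g * x * g⁻¹ = x := by rw [mem_centralizer_singleton_iff.1 hg, mul_inv_cancel_right]
  refine mem_stabilizer_iff.2 (h.unique_point hx ?_ ha)
  rw [← hgx]
  exact mem_smul_sylow.2 ha

theorem conj_mem_J {a : Sylow 2 G} {g y : G} (hg : g ∈ stabilizer G a)
    (hy : y ∈ (a : Subgroup G) ∧ orderOf y = 2) :
    g * y * g⁻¹ ∈ (a : Subgroup G) ∧ orderOf (g * y * g⁻¹) = 2 := by
  refine ⟨?_, by rw [conj_orderOf, hy.2]⟩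
  have := (mem_smul_sylow (g := g)).2 hy.1
  rwa [mem_stabilizer_iff.1 hg] at this

theorem stab_trans {a : Sylow 2 G} {x y : G} (hx : x ∈ (a : Subgroup G) ∧ orderOf x = 2)
    (hy : y ∈ (a : Subgroup G) ∧ orderOf y = 2) : ∃ g ∈ stabilizer G a, g * x * g⁻¹ = y := by
  obtain ⟨g, hg⟩ := isConj_iff.1 (h.conj x y hx.2 hy.2)
  exact ⟨g, mem_stabilizer_iff.2 (h.unique_point hy.2 (hg ▸ mem_smul_sylow.2 hx.1) hy.1), hg⟩

theorem mem_cent_of_J {x y : G} {a : Sylow 2 G} (hx : x ∈ (a : Subgroup G) ∧ orderOf x = 2)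
    (hy : y ∈ (a : Subgroup G)) : y ∈ centralizer ({x} : Set G) := by
  rw [h.sylow_eq hx.2 hx.1] at hy
  exact h.Qs_le hx.2 hy

theorem cent_const {x y : G} {a : Sylow 2 G} (hx : x ∈ (a : Subgroup G) ∧ orderOf x = 2)
    (hy : y ∈ (a : Subgroup G) ∧ orderOf y = 2) :
    centralizer ({y} : Set G) = centralizer ({x} : Set G) :=
  h.cent_eq hx.2 hy.2 (h.mem_cent_of_J hx hy.1)

theorem exists_J (a : Sylow 2 G) : ∃ x, x ∈ (a : Subgroup G) ∧ orderOf x = 2 := by
  obtain ⟨x, hx⟩ := h.exists_inv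
  obtain ⟨b, hb⟩ := h.exists_point hx
  haveI : Fact (Nat.Prime 2) := ⟨Nat.prime_two⟩
  obtain ⟨g, rfl⟩ := MulAction.exists_smul_eq G b a
  exact ⟨g * x * g⁻¹, mem_smul_sylow.2 hb, by rw [conj_orderOf, hx]⟩

theorem card_J (a : Sylow 2 G) : Nat.card (J a) = q - 1 := by
  classical
  obtain ⟨x, hxa, hx⟩ := h.exists_J a
  set C := centralizer ({x} : Set G)
  let f : J a → {g : C // g * g = 1 ∧ g ≠ 1} := fun y =>
    ⟨⟨y.1, h.mem_cent_of_J ⟨hxa, hx⟩ y.2.1⟩, Subtype.ext (orderOf_two_iff.1 y.2.2).1,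
      fun e => (orderOf_two_iff.1 y.2.2).2 (congrArg Subtype.val e)⟩
  have hf : Function.Bijective f := by
    refine ⟨fun y z e => Subtype.ext ?_, fun g => ?_⟩
    · have e' := congrArg (fun t : {g : C // g * g = 1 ∧ g ≠ 1} => ((t.1 : C) : G)) e
      exact e'
    · have h2 : orderOf (g.1 : G) = 2 := orderOf_two_iff.2 ⟨congrArg Subtype.val g.2.1,
        fun e => g.2.2 (Subtype.ext e)⟩
      refine ⟨⟨g.1, ?_, h2⟩, rfl⟩
      rw [h.sylow_eq hx hxa, h.mem_Qs]
      refine ⟨g.1.2, ?_⟩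
      rw [show 4 = 2 * 2 by rfl, pow_mul, pow_two (g.1 : G), (orderOf_two_iff.1 h2).1, one_pow]
  haveI : Fintype C := Fintype.ofFinite _
  have h1 := (h.shp hx).card_sq_one h.card_L
  rw [Nat.card_eq_fintype_card, Fintype.card_subtype] at h1
  rw [Nat.card_eq_of_bijective f hf, Nat.card_eq_fintype_card, Fintype.card_subtype, ← Finset.filter_filter,
    Finset.filter_ne' _ (1 : C), Finset.card_erase_of_mem (by simp), h1]

theorem card_stab (a : Sylow 2 G) :
    Nat.card (stabilizer G a) = q ^ 3 * (q + 1) * (q - 1) := by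
  classical
  obtain ⟨x, hxa, hx⟩ := h.exists_J a
  set N := stabilizer G a
  set C := centralizer ({x} : Set G)
  let f : N ⧸ C.subgroupOf N → J a := fun c => Quotient.liftOn' c
    (fun g => ⟨(g : G) * x * (g : G)⁻¹, h.conj_mem_J g.2 ⟨hxa, hx⟩⟩) (by
      intro g k hgk
      rw [QuotientGroup.leftRel_apply, mem_subgroupOf, mem_centralizer_singleton_iff] at hgk
      apply Subtype.ext
      simp only [Subgroup.coe_mul, InvMemClass.coe_inv] at hgk ⊢
      calc (g : G) * x * (g : G)⁻¹ = (g : G) * (x * ((g : G)⁻¹ * k)) * (k : G)⁻¹ := by group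
        _ = (g : G) * ((g : G)⁻¹ * k * x) * (k : G)⁻¹ := by rw [hgk]
        _ = (k : G) * x * (k : G)⁻¹ := by group)
  have hf : Function.Bijective f := by
    constructor
    · intro c d
      induction c using Quotient.inductionOn' with
      | _ g =>
        induction d using Quotient.inductionOn' with
        | _ k =>
          intro he
          have he' : (g : G) * x * (g : G)⁻¹ = (k : G) * x * (k : G)⁻¹ := congrArg Subtype.val he
          rw [Quotient.eq'', QuotientGroup.leftRel_apply, mem_subgroupOf,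
            mem_centralizer_singleton_iff]
          simp only [Subgroup.coe_mul, InvMemClass.coe_inv]
          calc (g : G)⁻¹ * k * x = (g : G)⁻¹ * ((k : G) * x * (k : G)⁻¹) * k := by group
            _ = x * ((g : G)⁻¹ * k) := by rw [← he']; group
    · rintro ⟨y, hy⟩
      obtain ⟨g, hg, e⟩ := h.stab_trans ⟨hxa, hx⟩ hy
      exact ⟨Quotient.mk'' ⟨g, hg⟩, Subtype.ext e⟩
  have h1 := card_eq_card_quotient_mul_card_subgroup (C.subgroupOf N)
  rw [Nat.card_eq_of_bijective f hf, h.card_J, Nat.card_congr (subgroupOfEquivOfLe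
    (h.cent_le_stab hx hxa)).toEquiv, h.card_cent hx] at h1
  rw [h1]; ring

theorem exists_ne (a : Sylow 2 G) : ∃ b : Sylow 2 G, b ≠ a := by
  by_contra hc
  push Not at hc
  refine h.notNormal a ?_
  rw [← normalizer_eq_top_iff, eq_top_iff]
  intro g _
  exact Sylow.smul_eq_iff_mem_normalizer.1 (hc _)

theorem eq_one_of_odd_sq {a : Sylow 2 G} {g : G} (hg : g ∈ (a : Subgroup G)) (ho : Odd (orderOf g)) :
    g = 1 := by
  obtain ⟨k, hk⟩ := a.2 ⟨g, hg⟩
  obtain ⟨j, -, hj⟩ := (Nat.dvd_prime_pow Nat.prime_two).1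
    (orderOf_dvd_of_pow_eq_one (show g ^ 2 ^ k = 1 by simpa using congrArg Subtype.val hk))
  rw [hj] at ho
  rcases Nat.eq_zero_or_pos j with rfl | hj0
  · exact orderOf_eq_one_iff.1 (by rw [hj, pow_zero])
  · exact absurd ho (Nat.not_odd_iff_even.2 ((Nat.even_pow.2 ⟨even_two, by omega⟩)))

theorem faithful : FaithfulSMul G (Sylow 2 G) := by
  refine ⟨fun {g k} hgk => ?_⟩
  set K := (MulAction.toPermHom G (Sylow 2 G)).ker
  suffices hK : K = ⊥ by
    refine inv_mul_eq_one.1 (show k⁻¹ * g = 1 from ?_) |>.symm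
    have : k⁻¹ * g ∈ K := by
      rw [MonoidHom.mem_ker]
      ext1 b
      show (k⁻¹ * g) • b = b
      rw [mul_smul, hgk, inv_smul_smul]
    rwa [hK, mem_bot] at this
  have hfix : ∀ z ∈ K, ∀ b : Sylow 2 G, z • b = b := fun z hz b =>
    congrArg (fun e : Equiv.Perm (Sylow 2 G) => e b) (MonoidHom.mem_ker.1 hz)
  haveI : Fact (Nat.Prime 2) := ⟨Nat.prime_two⟩
  have hKodd : Odd (Nat.card K) := by
    rw [← Nat.not_even_iff_odd, even_iff_two_dvd]
    intro hd
    obtain ⟨⟨z, hz⟩, hz2⟩ := exists_prime_orderOf_dvd_card' 2 hd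
    rw [Subgroup.orderOf_mk] at hz2
    obtain ⟨a, ha⟩ := h.exists_point hz2
    obtain ⟨b, hb⟩ := h.exists_ne a
    exact hb (h.unique_point hz2 ((h.fix_iff hz2).1 (hfix z hz b)) ha)
  obtain ⟨x, hx⟩ := h.exists_inv
  obtain ⟨a, ha⟩ := h.exists_point hx
  rw [eq_bot_iff]
  intro z hz
  rw [mem_bot]
  have hzn : z ∈ normalizer ((a : Subgroup G) : Set G) :=
    Sylow.smul_eq_iff_mem_normalizer.1 (hfix z hz a)
  have hcomm : ∀ s ∈ (a : Subgroup G), z * s = s * z := by
    intro s hs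
    have h1 : z * s * z⁻¹ * s⁻¹ ∈ K := by
      rw [show z * s * z⁻¹ * s⁻¹ = z * (s * z⁻¹ * s⁻¹) by group]
      exact mul_mem hz ((MonoidHom.normal_ker _).conj_mem _ (inv_mem hz) s)
    have h2 : z * s * z⁻¹ * s⁻¹ ∈ (a : Subgroup G) :=
      mul_mem ((mem_normalizer_iff.1 hzn s).1 hs) (inv_mem hs)
    have h3 := h.eq_one_of_odd_sq h2 (hKodd.of_dvd_nat (by
      have := orderOf_dvd_natCard (⟨_, h1⟩ : K)
      rwa [Subgroup.orderOf_mk] at this))
    rwa [mul_inv_eq_one, mul_inv_eq_iff_eq_mul] at h3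
  have hzC : z ∈ centralizer ({x} : Set G) := mem_centralizer_singleton_iff.2 (hcomm x ha)
  set S := h.shp hx
  by_cases hχ : S.χ ⟨z, hzC⟩ = 1
  · refine h.eq_one_of_odd_sq (a := a) ?_ (hKodd.of_dvd_nat (by
      have := orderOf_dvd_natCard (⟨z, hz⟩ : K)
      rwa [Subgroup.orderOf_mk] at this))
    rw [h.sylow_eq hx ha]
    exact ⟨⟨z, hzC⟩, hχ, rfl⟩
  · exfalso
    obtain ⟨y, hy, hyl⟩ := S.lab_surj 1
    have hya : (y : G) ∈ (a : Subgroup G) := by
      rw [h.sylow_eq hx ha]; exact ⟨y, hy, rfl⟩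
    have h4 := S.sq_eq_one_of_commute hχ hy (Subtype.ext (hcomm y hya))
    rw [(S.lab_zero y hy).2 h4] at hyl
    exact zero_ne_one hyl

end Hyp

end CfsgLib.Known.UThreeEven
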