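import Cfsg.Agent.Lib.Known.UThreeEven.Local

/-!
# Pairs of Sylow 2-subgroups: every pair is exchanged by exactly `q - 1` involutions
-/

set_option autoImplicit false
set_option linter.all false

namespace CfsgLib.Known.UThreeEven

open MulAction Subgroup

universe u v

variable {G : Type u} [Group G] [Finite G] {L : Type v} [Field L] [Fintype L] [CharP L 2] {q : ℕ}

/-- The two-point stabiliser. -/
abbrev DD (a b : Sylow 2 G) : Subgroup G := stabilizer G a ⊓ stabilizer G b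

/-- `t` exchanges `a` and `b`. -/
def Swaps (t : G) (a b : Sylow 2 G) : Prop := orderOf t = 2 ∧ t • a = b

theorem mem_DD {a b : Sylow 2 G} {d : G} : d ∈ DD a b ↔ d • a = a ∧ d • b = b :=
  Subgroup.mem_inf.trans (and_congr mem_stabilizer_iff mem_stabilizer_iff)

theorem Swaps.back {t : G} {a b : Sylow 2 G} (ht : Swaps t a b) : t • b = a := by
  rw [← ht.2, ← mul_smul, (orderOf_two_iff.1 ht.1).1, one_smul]

theorem Swaps.inv {t : G} {a b : Sylow 2 G} (ht : Swaps t a b) : t⁻¹ = t :=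
  inv_eq_of_mul_eq_one_right (orderOf_two_iff.1 ht.1).1

theorem Swaps.conj_mem {t : G} {a b : Sylow 2 G} (ht : Swaps t a b) {d : G} (hd : d ∈ DD a b) :
    t * d * t⁻¹ ∈ DD a b := by
  obtain ⟨h1, h2⟩ := mem_DD.1 hd
  rw [mem_DD, ht.inv, mul_smul, mul_smul, ht.2, h2, ht.back, mul_smul, mul_smul, ht.back, h1, ht.2]
  exact ⟨rfl, rfl⟩

namespace Hyp

variable (h : Hyp G L q)
include h

theorem odd_DD {a b : Sylow 2 G} (hab : a ≠ b) {d : G} (hd : d ∈ DD a b) : Odd (orderOf d) := by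
  rw [← Nat.not_even_iff_odd, even_iff_two_dvd]
  intro h2
  obtain ⟨k, hk⟩ := h2
  have hy : orderOf (d ^ k) = 2 := by
    rw [orderOf_pow' _ (by rintro rfl; have := orderOf_pos d; omega), hk, Nat.gcd_eq_right (dvd_mul_left k 2),
      Nat.mul_div_cancel _ (Nat.pos_of_ne_zero (by rintro rfl; have := orderOf_pos d; omega))]
  have hm := mem_DD.1 (pow_mem hd k)
  exact hab (h.unique_point hy ((h.fix_iff hy).1 hm.1) ((h.fix_iff hy).1 hm.2))

theorem eq_one_of_mem_DD {a b : Sylow 2 G} (hab : a ≠ b) {d : G} (hd : d ∈ DD a b)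
    (ha : d ∈ (a : Subgroup G)) : d = 1 := h.eq_one_of_odd_sq ha (h.odd_DD hab hd)

theorem coprime_q : Nat.Coprime (q - 1) (q + 1) := by
  obtain ⟨n, hn, hq⟩ := h.q_two_pow
  have h4 : 4 ≤ q := by
    rw [hq]
    calc 4 = 2 ^ 2 := rfl
      _ ≤ _ := Nat.pow_le_pow_right (by norm_num) hn
  have he := h.even_q
  refine Nat.coprime_of_dvd' fun p hp h1 h2 => ?_
  have h3 : p ∣ q + 1 - (q - 1) := Nat.dvd_sub h2 h1
  rw [show q + 1 - (q - 1) = 2 by omega] at h3
  have hp2 : p = 2 := (Nat.prime_dvd_prime_iff_eq hp Nat.prime_two).1 h3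
  subst hp2
  obtain ⟨k, hk⟩ := he
  omega

theorem pow_mem_cent {a : Sylow 2 G} {x g : G} (hx : x ∈ (a : Subgroup G) ∧ orderOf x = 2)
    (hg : g ∈ stabilizer G a) : g ^ (q - 1) ∈ centralizer ({x} : Set G) := by
  set N := stabilizer G a
  set C := centralizer ({x} : Set G)
  have hle : C ≤ N := h.cent_le_stab hx.2 hx.1
  haveI : (C.subgroupOf N).Normal := by
    refine ⟨fun c hc k => ?_⟩
    rw [mem_subgroupOf] at hc ⊢
    have hk := h.conj_mem_J k.2 hx
    show (k : G) * c * (k : G)⁻¹ ∈ C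
    rw [show C = centralizer ({(k : G) * x * (k : G)⁻¹} : Set G) from (h.cent_const hx hk).symm,
      mem_centralizer_singleton_iff]
    have e := mem_centralizer_singleton_iff.1 hc
    calc (k : G) * c * (k : G)⁻¹ * ((k : G) * x * (k : G)⁻¹) = k * ((c : G) * x) * (k : G)⁻¹ := by group
      _ = k * (x * c) * (k : G)⁻¹ := by rw [e]
      _ = (k : G) * x * (k : G)⁻¹ * (k * c * (k : G)⁻¹) := by group
  have hidx : (C.subgroupOf N).index = q - 1 := by
    have h1 := Subgroup.card_mul_index (C.subgroupOf N)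
    rw [Nat.card_congr (subgroupOfEquivOfLe hle).toEquiv, h.card_cent hx.2, h.card_stab] at h1
    exact Nat.eq_of_mul_eq_mul_left (by have := h.two_lt; positivity) h1
  have h2 := pow_index_mem (C.subgroupOf N) (⟨g, hg⟩ : N)
  rw [hidx, mem_subgroupOf] at h2
  simpa using h2

theorem mem_cent_iff {a b : Sylow 2 G} (hab : a ≠ b) {x d : G}
    (hx : x ∈ (a : Subgroup G) ∧ orderOf x = 2) (hd : d ∈ DD a b) :
    d ∈ centralizer ({x} : Set G) ↔ d ^ (q + 1) = 1 := by
  constructor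
  · intro hc
    have h1 : d ^ (q + 1) ∈ (a : Subgroup G) := by
      rw [h.sylow_eq hx.2 hx.1]
      exact ⟨⟨d, hc⟩ ^ (q + 1), by
        rw [SetLike.mem_coe, MonoidHom.mem_ker, map_pow, (h.shp hx.2).units_norm], by simp⟩
    exact h.eq_one_of_mem_DD hab (pow_mem hd _) h1
  · intro h1
    have h2 := h.pow_mem_cent hx (mem_stabilizer_iff.2 (mem_DD.1 hd).1)
    have h3 : d ^ (q + 1) ∈ centralizer ({x} : Set G) := by rw [h1]; exact one_mem _
    have he : d ^ 2 ∈ centralizer ({x} : Set G) := by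
      have := mul_mem h3 (inv_mem h2)
      rwa [← pow_sub d (show q - 1 ≤ q + 1 by omega),
        show q + 1 - (q - 1) = 2 by have := h.two_lt; omega] at this
    obtain ⟨k, hk⟩ := h.odd_DD hab hd
    have : d = (d ^ 2) ^ (k + 1) := by
      rw [← pow_mul, show 2 * (k + 1) = orderOf d + 1 by omega, pow_succ, pow_orderOf_eq_one, one_mul]
    rw [this]
    exact pow_mem he _

theorem cent_swap {a b : Sylow 2 G} {t x : G} (hab : a ≠ b) (ht : Swaps t a b)
    (hx : x ∈ (a : Subgroup G) ∧ orderOf x = 2) {d : G} (hd : d ∈ DD a b)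
    (hc : d ∈ centralizer ({x} : Set G)) : t * d * t⁻¹ ∈ centralizer ({x} : Set G) := by
  rw [h.mem_cent_iff hab hx (ht.conj_mem hd), conj_pow, (h.mem_cent_iff hab hx hd).1 hc, mul_one,
    mul_inv_cancel]

/-- An element inverted by the exchange and centralising an involution of `a` is trivial. -/
theorem inverted_cent {a b : Sylow 2 G} {t x d : G} (hab : a ≠ b) (ht : Swaps t a b)
    (hx : x ∈ (a : Subgroup G) ∧ orderOf x = 2) (hd : d ∈ DD a b) (hinv : t * d * t⁻¹ = d⁻¹)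
    (hc : d ∈ centralizer ({x} : Set G)) : d = 1 := by
  obtain ⟨hxx, hx1⟩ := orderOf_two_iff.1 hx.2
  have hxi : x⁻¹ = x := inv_eq_of_mul_eq_one_right hxx
  have hdx : x * d * x⁻¹ = d := by
    rw [← mem_centralizer_singleton_iff.1 hc, mul_inv_cancel_right]
  obtain ⟨m, hm⟩ := Nat.even_or_odd' (orderOf (x * t))
  rcases hm with hm | hm
  · -- an involution commuting with both
    exfalso
    have hpos := orderOf_pos (x * t)
    set z := (x * t) ^ m with hz
    have hzo : orderOf z = 2 := by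
      rw [hz, orderOf_pow' _ (by omega), hm, Nat.gcd_eq_right (dvd_mul_left m 2),
        Nat.mul_div_cancel _ (by omega)]
    have hzz : z⁻¹ = z := inv_eq_of_mul_eq_one_right (orderOf_two_iff.1 hzo).1
    have hzx : z * x = x * z := by
      have e : x * (x * t) * x⁻¹ = (x * t)⁻¹ := by
        rw [mul_inv_rev, ht.inv, hxi, ← mul_assoc, hxx, one_mul]
      have e2 : x * z * x⁻¹ = z⁻¹ := by rw [hz, ← conj_pow, e, inv_pow]
      rw [hzz, mul_inv_eq_iff_eq_mul] at e2
      exact e2.symm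
    have hzt : z * t = t * z := by
      have e : t * (x * t) * t⁻¹ = (x * t)⁻¹ := by
        rw [mul_inv_rev, ht.inv, hxi]
        calc t * (x * t) * t = t * x * (t * t) := by group
          _ = t * x := by rw [(orderOf_two_iff.1 ht.1).1, mul_one]
      have e2 : t * z * t⁻¹ = z⁻¹ := by rw [hz, ← conj_pow, e, inv_pow]
      rw [hzz, mul_inv_eq_iff_eq_mul] at e2
      exact e2.symm
    have hzc : z ∈ centralizer ({x} : Set G) := mem_centralizer_singleton_iff.2 hzx
    have : t ∈ centralizer ({x} : Set G) := by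
      rw [← h.cent_eq hx.2 hzo hzc]
      exact mem_centralizer_singleton_iff.2 hzt.symm
    have := mem_stabilizer_iff.1 (h.cent_le_stab hx.2 hx.1 this)
    exact hab (this.symm.trans ht.2)
  · -- `t` is conjugate to `x` in `⟨x, t⟩`
    have hdi : t * d⁻¹ * t⁻¹ = d := by
      rw [← inv_inv (t * d⁻¹ * t⁻¹)]
      have : (t * d⁻¹ * t⁻¹)⁻¹ = t * d * t⁻¹ := by group
      rw [this, hinv, inv_inv]
    have hxdi : x * d⁻¹ * x⁻¹ = d⁻¹ := by
      rw [show x * d⁻¹ * x⁻¹ = (x * d * x⁻¹)⁻¹ by group, hdx]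
    set r := x * t with hr
    have hr1 : r * d * r⁻¹ = d⁻¹ := by
      rw [hr, mul_inv_rev, show x * t * d * (t⁻¹ * x⁻¹) = x * (t * d * t⁻¹) * x⁻¹ by group, hinv, hxdi]
    have hr2 : r ^ 2 * d * (r ^ 2)⁻¹ = d := by
      rw [pow_two, show r * r * d * (r * r)⁻¹ = r * (r * d * r⁻¹) * r⁻¹ by group, hr1]
      have := congrArg (·⁻¹) hr1
      simp only [mul_inv_rev, inv_inv] at this
      rw [← mul_assoc] at this
      exact this
    have hrd : r * d * r⁻¹ = d := by
      have hpow : ∀ k : ℕ, (r ^ 2) ^ k * d * ((r ^ 2) ^ k)⁻¹ = d := by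
        intro k
        induction k with
        | zero => simp
        | succ k ih =>
          rw [pow_succ', mul_inv_rev]
          calc r ^ 2 * (r ^ 2) ^ k * d * (((r ^ 2) ^ k)⁻¹ * (r ^ 2)⁻¹)
              = r ^ 2 * ((r ^ 2) ^ k * d * ((r ^ 2) ^ k)⁻¹) * (r ^ 2)⁻¹ := by group
            _ = d := by rw [ih, hr2]
      have := hpow (m + 1)
      rwa [← pow_mul, show 2 * (m + 1) = orderOf r + 1 by rw [hm]; ring, pow_succ, pow_orderOf_eq_one,
        one_mul] at this
    have hdd : d * d = 1 := by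
      have := hr1.symm.trans hrd
      rw [inv_eq_iff_mul_eq_one] at this
      exact this
    obtain ⟨k, hk⟩ := h.odd_DD hab hd
    have h1 : d ^ orderOf d = 1 := pow_orderOf_eq_one d
    rwa [hk, pow_succ, pow_mul, pow_two, hdd, one_pow, one_mul] at h1

theorem swap_fix {a b : Sylow 2 G} {t x f : G} (hab : a ≠ b) (ht : Swaps t a b)
    (hx : x ∈ (a : Subgroup G) ∧ orderOf x = 2) (hf : f ∈ DD a b)
    (hc : f ∈ centralizer ({x} : Set G)) : t * f * t⁻¹ = f := by
  have h1 := h.cent_swap hab ht hx hf hc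
  set g := f⁻¹ * (t * f * t⁻¹) with hg
  have hg1 : g = 1 := h.inverted_cent hab ht hx (mul_mem (inv_mem hf) (ht.conj_mem hf)) (by
    rw [hg]
    calc t * (f⁻¹ * (t * f * t⁻¹)) * t⁻¹ = (t * f⁻¹ * t) * f * (t⁻¹ * t⁻¹) := by group
      _ = (t * f⁻¹ * t⁻¹) * f := by
        rw [ht.inv, (orderOf_two_iff.1 ht.1).1, mul_one]
      _ = _ := by group) (mul_mem (inv_mem hc) h1)
  rw [hg, inv_mul_eq_one] at hg1
  exact hg1.symm

theorem inverted_inj {a b : Sylow 2 G} {t x d e : G} (hab : a ≠ b) (ht : Swaps t a b)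
    (hx : x ∈ (a : Subgroup G) ∧ orderOf x = 2) (hd : d ∈ DD a b) (he : e ∈ DD a b)
    (hdi : t * d * t⁻¹ = d⁻¹) (hei : t * e * t⁻¹ = e⁻¹) (heq : d * x * d⁻¹ = e * x * e⁻¹) :
    d = e := by
  set f := e⁻¹ * d with hf
  have hfD : f ∈ DD a b := mul_mem (inv_mem he) hd
  have hfc : f ∈ centralizer ({x} : Set G) := by
    rw [mem_centralizer_singleton_iff, hf]
    calc e⁻¹ * d * x = e⁻¹ * (d * x * d⁻¹) * d := by group
      _ = x * (e⁻¹ * d) := by rw [heq]; group
  have h1 := h.swap_fix hab ht hx hfD hfc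
  have h2 : e * d⁻¹ = f := by
    rw [← h1, hf]
    calc e * d⁻¹ = (t * e⁻¹ * t⁻¹) * (t * d * t⁻¹) := by
          rw [hdi, show t * e⁻¹ * t⁻¹ = (t * e * t⁻¹)⁻¹ by group, hei, inv_inv]
      _ = _ := by group
  -- `e` conjugates `f` to its inverse
  have h3 : e⁻¹ * f * e = f⁻¹ := by
    rw [← h2]
    calc e⁻¹ * (e * d⁻¹) * e = d⁻¹ * e := by group
      _ = (e⁻¹ * d)⁻¹ := by group
      _ = _ := by rw [← hf, h2]
  have h4 : (e ^ 2)⁻¹ * f * e ^ 2 = f := by
    calc (e ^ 2)⁻¹ * f * e ^ 2 = e⁻¹ * (e⁻¹ * f * e) * e := by rw [pow_two]; group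
      _ = (e⁻¹ * f * e)⁻¹ := by
        conv_lhs => rw [h3]
        group
      _ = f := by rw [h3, inv_inv]
  obtain ⟨k, hk⟩ := h.odd_DD hab he
  have hee : e = (e ^ 2) ^ (k + 1) := by
    rw [← pow_mul, show 2 * (k + 1) = orderOf e + 1 by omega, pow_succ, pow_orderOf_eq_one, one_mul]
  have h5 : Commute f e := by
    rw [hee]
    refine Commute.pow_right ?_ _
    show f * e ^ 2 = e ^ 2 * f
    conv_rhs => rw [← h4]
    group
  rw [mul_assoc, h5.eq, inv_mul_cancel_left] at h3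
  have hff : f * f = 1 := by
    have := eq_inv_iff_mul_eq_one.1 h3
    exact this
  obtain ⟨j, hj⟩ := h.odd_DD hab hfD
  have h6 : f ^ orderOf f = 1 := pow_orderOf_eq_one f
  rw [hj, pow_succ, pow_mul, pow_two, hff, one_pow, one_mul, hf, inv_mul_eq_one] at h6
  exact h6.symm

theorem card_swaps_le {a b : Sylow 2 G} (hab : a ≠ b) :
    Nat.card {t : G // Swaps t a b} ≤ q - 1 := by
  rcases isEmpty_or_nonempty {t : G // Swaps t a b} with he | ⟨⟨t0, ht0⟩⟩
  · simp
  obtain ⟨x, hx⟩ := h.exists_J a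
  rw [← h.card_J a]
  have hD : ∀ t : {t : G // Swaps t a b}, t0 * t.1 ∈ DD a b := fun t => by
    rw [mem_DD, mul_smul, mul_smul, t.2.2, ht0.back, t.2.back, ht0.2]
    exact ⟨rfl, rfl⟩
  have hinv : ∀ t : {t : G // Swaps t a b}, t0 * (t0 * t.1) * t0⁻¹ = (t0 * t.1)⁻¹ := fun t => by
    rw [mul_inv_rev, t.2.inv, ← mul_assoc t0 t0, (orderOf_two_iff.1 ht0.1).1, one_mul]
  refine Nat.card_le_card_of_injective (fun t => (⟨t0 * t.1 * x * (t0 * t.1)⁻¹,
    h.conj_mem_J (mem_stabilizer_iff.2 (mem_DD.1 (hD t)).1) hx⟩ : J a)) fun t s e => ?_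
  exact Subtype.ext (mul_left_cancel (h.inverted_inj hab ht0 hx (hD t) (hD s) (hinv t) (hinv s)
    (congrArg Subtype.val e)))

theorem card_swaps {a b : Sylow 2 G} (hab : a ≠ b) : Nat.card {t : G // Swaps t a b} = q - 1 := by
  classical
  haveI : Fintype G := Fintype.ofFinite _
  haveI : Fintype (Sylow 2 G) := Fintype.ofFinite _
  set n := Fintype.card (Sylow 2 G)
  let P : Finset (Sylow 2 G × Sylow 2 G) := Finset.univ.filter fun p => p.1 ≠ p.2
  let f : Sylow 2 G × Sylow 2 G → ℕ := fun p =>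
    (Finset.univ.filter fun t : G => Swaps t p.1 p.2).card
  have hf : ∀ p : Sylow 2 G × Sylow 2 G, f p = Nat.card {t : G // Swaps t p.1 p.2} := fun p => by
    rw [Nat.card_eq_fintype_card, Fintype.card_subtype]
  let Inv : Finset G := Finset.univ.filter fun t => orderOf t = 2
  have hInv : Inv.card = n * (q - 1) := by
    let e : (Σ a : Sylow 2 G, J a) → {t : G // orderOf t = 2} := fun p => ⟨p.2.1, p.2.2.2⟩
    have he : Function.Bijective e := by
      constructor
      · rintro ⟨a, y⟩ ⟨b, z⟩ hyz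
        have hv : y.1 = z.1 := congrArg Subtype.val hyz
        obtain rfl : a = b := h.unique_point y.2.2 y.2.1 (hv ▸ z.2.1)
        rw [Subtype.ext hv]
      · rintro ⟨t, ht⟩
        obtain ⟨a, ha⟩ := h.exists_point ht
        exact ⟨⟨a, t, ha, ht⟩, rfl⟩
    rw [← Fintype.card_subtype, ← Nat.card_eq_fintype_card, ← Nat.card_eq_of_bijective e he,
      Nat.card_sigma, Finset.sum_congr rfl (fun a _ => h.card_J a), Finset.sum_const,
      Finset.card_univ, smul_eq_mul]
  have hsum : ∑ p ∈ P, f p = n * (q - 1) * (n - 1) := by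
    have e1 : ∑ p ∈ P, f p = ∑ t ∈ Inv, (Finset.univ.filter fun a : Sylow 2 G => t • a ≠ a).card := by
      rw [← Finset.card_sigma, ← Finset.card_sigma]
      refine Finset.card_bij' (fun x _ => ⟨x.2, x.1.1⟩) (fun y _ => ⟨(y.2, y.1 • y.2), y.1⟩) ?_ ?_ ?_ ?_
      · rintro ⟨⟨a, b⟩, t⟩ hx
        simp only [Finset.mem_sigma, P, Inv, Finset.mem_filter, Finset.mem_univ, true_and] at hx ⊢
        exact ⟨hx.2.1, by rw [hx.2.2]; exact fun e => hx.1 e.symm⟩
      · rintro ⟨t, a⟩ hy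
        simp only [Finset.mem_sigma, P, Inv, Finset.mem_filter, Finset.mem_univ, true_and] at hy ⊢
        exact ⟨fun e => hy.2 e.symm, hy.1, rfl⟩
      · rintro ⟨⟨a, b⟩, t⟩ hx
        simp only [Finset.mem_sigma, P, Inv, Finset.mem_filter, Finset.mem_univ, true_and] at hx
        simp [hx.2.2]
      · rintro ⟨t, a⟩ hy
        rfl
    rw [e1, Finset.sum_congr rfl (fun t ht => ?_), Finset.sum_const, smul_eq_mul, hInv]
    obtain ⟨a, ha⟩ := h.exists_point (Finset.mem_filter.1 ht).2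
    have e2 : (Finset.univ.filter fun b : Sylow 2 G => t • b ≠ b) = Finset.univ.erase a := by
      ext b
      simp only [Finset.mem_filter, Finset.mem_univ, true_and, Finset.mem_erase, and_true]
      have ht2 := (Finset.mem_filter.1 ht).2
      rw [ne_eq, h.fix_iff ht2]
      exact ⟨fun hb e => hb (e ▸ ha), fun hb hm => hb (h.unique_point ht2 hm ha)⟩
    rw [e2, Finset.card_erase_of_mem (Finset.mem_univ _), Finset.card_univ]
  have hP : P.card = n * (n - 1) := by
    have : P = (Finset.univ : Finset (Sylow 2 G)).offDiag := by ext p; simp [P]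
    rw [this, Finset.offDiag_card, Finset.card_univ, Nat.mul_sub, mul_one]
  have hle : ∀ p ∈ P, f p ≤ q - 1 := fun p hp => by
    rw [hf]; exact h.card_swaps_le (Finset.mem_filter.1 hp).2
  have heq := (Finset.sum_eq_sum_iff_of_le hle).1
    (by rw [hsum, Finset.sum_const, smul_eq_mul, hP]; ring) (a, b) (by simp [P, hab])
  rwa [hf] at heq

theorem exists_swap {a b : Sylow 2 G} (hab : a ≠ b) : ∃ t, Swaps t a b := by
  have h1 := h.card_swaps hab
  have : Nonempty {t : G // Swaps t a b} := by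
    refine (Nat.card_pos_iff.1 ?_).1
    have := h.two_lt
    omega
  exact ⟨this.some.1, this.some.2⟩

/-- The inverted elements are transitive on the involutions of `a`. -/
theorem inverted_surj {a b : Sylow 2 G} {t x y : G} (hab : a ≠ b) (ht : Swaps t a b)
    (hx : x ∈ (a : Subgroup G) ∧ orderOf x = 2) (hy : y ∈ (a : Subgroup G) ∧ orderOf y = 2) :
    ∃ d ∈ DD a b, t * d * t⁻¹ = d⁻¹ ∧ d * x * d⁻¹ = y := by
  have hD : ∀ s : {s : G // Swaps s a b}, t * s.1 ∈ DD a b := fun s => by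
    rw [mem_DD, mul_smul, mul_smul, s.2.2, ht.back, s.2.back, ht.2]
    exact ⟨rfl, rfl⟩
  have hinv : ∀ s : {s : G // Swaps s a b}, t * (t * s.1) * t⁻¹ = (t * s.1)⁻¹ := fun s => by
    rw [mul_inv_rev, s.2.inv, ← mul_assoc t t, (orderOf_two_iff.1 ht.1).1, one_mul]
  let f : {s : G // Swaps s a b} → J a := fun s => ⟨t * s.1 * x * (t * s.1)⁻¹,
    h.conj_mem_J (mem_stabilizer_iff.2 (mem_DD.1 (hD s)).1) hx⟩
  have hinj : Function.Injective f := fun s r e => Subtype.ext (mul_left_cancel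
    (h.inverted_inj hab ht hx (hD s) (hD r) (hinv s) (hinv r) (congrArg Subtype.val e)))
  haveI : Fintype {s : G // Swaps s a b} := Fintype.ofFinite _
  haveI : Fintype (J a) := Fintype.ofFinite _
  have hbij : Function.Bijective f := (Fintype.bijective_iff_injective_and_card f).2 ⟨hinj, by
    rw [← Nat.card_eq_fintype_card, ← Nat.card_eq_fintype_card, h.card_swaps hab, h.card_J]⟩
  obtain ⟨s, hs⟩ := hbij.2 ⟨y, hy⟩
  exact ⟨t * s.1, hD s, hinv s, congrArg Subtype.val hs⟩

end Hyp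

end CfsgLib.Known.UThreeEven
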