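import Cfsg.Agent.Lib.Known.UThreeEven.Shape
import Cfsg.Agent.Lib.Classical.Unitary.Matrix
import Mathlib.FieldTheory.Fixed

/-!
# Commutative groups of automorphisms of the shape, semiregular on the involutions
-/

set_option autoImplicit false
set_option linter.all false

namespace CfsgLib.Known.UThreeEven

open CfsgLib.Classical.Herm

theorem mul_pred_lt_pow {q0 : ℕ} (h0 : 2 ≤ q0) : ∀ h : ℕ, 2 ≤ h → h * (q0 - 1) + 1 < q0 ^ h := by
  intro h hh
  induction h, hh using Nat.le_induction with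
  | base =>
    rw [pow_two]
    have : q0 * 2 ≤ q0 * q0 := Nat.mul_le_mul_left _ h0
    omega
  | succ h hh ih =>
    rw [pow_succ, Nat.add_mul, one_mul]
    have : q0 ^ h * 2 ≤ q0 ^ h * q0 := Nat.mul_le_mul_left _ h0
    have : q0 ≤ q0 ^ h := Nat.le_self_pow (by omega) _
    omega

namespace CentShape

variable {C : Type*} [Group C] [Finite C] {L : Type*} [Field L] [Fintype L] [CharP L 2] {q : ℕ}
  (S : CentShape C L q) (hL : Fintype.card L = q ^ 2) (hq : Even q)

/-- The section of `lab`. -/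
noncomputable def sect (b : L) : C := (S.lab_surj b).choose

/-- The map induced on the labels by an automorphism. -/
noncomputable def PP (e : MulAut C) (b : L) : L := S.lab (e (S.sect b))

theorem sect_spec (b : L) : S.χ (S.sect b) = 1 ∧ S.lab (S.sect b) = b := (S.lab_surj b).choose_spec

include hq in
theorem chi_auto (e : MulAut C) {y : C} (hy : S.χ y = 1) : S.χ (e y) = 1 := by
  rw [S.chi_eq_one_iff hq, ← map_pow, S.pow_four hy, map_one]

include hq in
theorem lab_auto (e : MulAut C) {y : C} (hy : S.χ y = 1) : S.lab (e y) = S.PP e (S.lab y) := by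
  obtain ⟨hz, hzl⟩ := S.sect_spec (S.lab y)
  set z := S.sect (S.lab y) with hzdef
  have hw : S.χ (y * z) = 1 := by rw [map_mul, hy, hz, one_mul]
  have h2 : y * z * (y * z) = 1 :=
    (S.lab_zero _ hw).1 (by rw [S.lab_mul y z hy hz, hzl, CharTwo.add_self_eq_zero])
  have h3 : S.lab (e (y * z)) = 0 :=
    (S.lab_zero _ (S.chi_auto hq e hw)).2 (by rw [← map_mul, h2, map_one])
  rw [map_mul, S.lab_mul _ _ (S.chi_auto hq e hy) (S.chi_auto hq e hz)] at h3
  exact CharTwo.add_eq_zero.1 h3

include hq in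
theorem PP_add (e : MulAut C) (b b' : L) : S.PP e (b + b') = S.PP e b + S.PP e b' := by
  obtain ⟨h1, l1⟩ := S.sect_spec b
  obtain ⟨h2, l2⟩ := S.sect_spec b'
  have h : S.χ (S.sect b * S.sect b') = 1 := by rw [map_mul, h1, h2, one_mul]
  have := S.lab_auto hq e h
  rw [S.lab_mul _ _ h1 h2, l1, l2, map_mul, S.lab_mul _ _ (S.chi_auto hq e h1) (S.chi_auto hq e h2)]
    at this
  exact this.symm

include hq in
theorem PP_eq_zero (e : MulAut C) {b : L} (h : S.PP e b = 0) : b = 0 := by
  obtain ⟨h1, l1⟩ := S.sect_spec b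
  have h2 := (S.lab_zero _ (S.chi_auto hq e h1)).1 h
  rw [← map_mul, MulEquiv.map_eq_one_iff] at h2
  rw [← l1]
  exact (S.lab_zero _ h1).2 h2

include hq in
theorem PP_chi (e : MulAut C) (g : C) (b : L) :
    S.PP e ((S.χ g : L) * b) = (S.χ (e g) : L) * S.PP e b := by
  obtain ⟨h1, l1⟩ := S.sect_spec b
  have h : S.χ (g * S.sect b * g⁻¹) = 1 := by rw [map_mul, map_mul, h1, mul_one, map_inv, mul_inv_cancel]
  have h' := S.lab_auto hq e h
  rw [S.lab_conj g _ h1, l1, map_mul, map_mul, map_inv, S.lab_conj _ _ (S.chi_auto hq e h1)] at h'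
  exact h'.symm

include hq in
theorem PP_mul_auto (e f : MulAut C) (b : L) : S.PP (e * f) b = S.PP e (S.PP f b) := by
  obtain ⟨h1, l1⟩ := S.sect_spec b
  show S.lab (e (f (S.sect b))) = _
  rw [S.lab_auto hq e (S.chi_auto hq f h1)]
  rfl

theorem PP_one (b : L) : S.PP 1 b = b := (S.sect_spec b).2

/-- The factors by which `e` is semilinear. -/
def ratioField (e : MulAut C) (hP : ∀ b, S.PP e b = 0 → b = 0)
    (hadd : ∀ b b', S.PP e (b + b') = S.PP e b + S.PP e b') : Subfield L where
  carrier := {l | ∃ m, ∀ b, S.PP e (l * b) = m * S.PP e b}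
  mul_mem' := by
    rintro l l' ⟨m, hm⟩ ⟨m', hm'⟩
    exact ⟨m * m', fun b => by rw [mul_assoc l, hm, hm', mul_assoc]⟩
  one_mem' := ⟨1, fun b => by rw [one_mul, one_mul]⟩
  add_mem' := by
    rintro l l' ⟨m, hm⟩ ⟨m', hm'⟩
    exact ⟨m + m', fun b => by rw [add_mul, hadd, hm, hm', add_mul]⟩
  zero_mem' := ⟨0, fun b => by
    rw [zero_mul, zero_mul]
    have := hadd 0 0
    rw [add_zero] at this
    exact left_eq_add.1 this⟩
  neg_mem' := by
    rintro l ⟨m, hm⟩
    exact ⟨m, fun b => by rw [CharTwo.neg_eq, hm]⟩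
  inv_mem' := by
    rintro l ⟨m, hm⟩
    by_cases hl : l = 0
    · exact ⟨m, by rw [hl, inv_zero, ← hl]; exact hm⟩
    have hm0 : m ≠ 0 := by
      intro h0
      have := hP (l * 1) (by rw [hm, h0, zero_mul])
      rw [mul_one] at this
      exact hl this
    refine ⟨m⁻¹, fun b => mul_left_cancel₀ hm0 ?_⟩
    rw [← hm, mul_inv_cancel_left₀ hl, mul_inv_cancel_left₀ hm0]

include hL hq in
theorem PP_semilinear (e : MulAut C) (l b : L) :
    S.PP e (l * b) = S.PP e l / S.PP e 1 * S.PP e b := by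
  have hP : ∀ b, S.PP e b = 0 → b = 0 := fun b => S.PP_eq_zero hq e
  set K := S.ratioField e hP (S.PP_add hq e)
  have hK : K = ⊤ := by
    have hq2 := S.two_le_q hL
    have hsub : ∀ u ∈ S.χ.range, (u : L) ∈ K := by
      rintro _ ⟨g, rfl⟩
      exact ⟨_, fun b => S.PP_chi hq e g b⟩
    have h1 : q + 1 ≤ Nat.card K := by
      rw [← S.card_range_chi hL]
      exact Nat.card_le_card_of_injective (fun u => (⟨(u : Lˣ), hsub _ u.2⟩ : K))
        fun u v h => Subtype.ext (Units.ext (congrArg Subtype.val h))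
    have h2 : Nat.card L = Nat.card K ^ Module.finrank K L := Module.natCard_eq_pow_finrank
    rw [Nat.card_eq_fintype_card (α := L), hL] at h2
    have hf : Module.finrank K L = 1 := by
      have hpos : 0 < Module.finrank K L := Module.finrank_pos
      by_contra hne
      have : (q + 1) ^ 2 ≤ q ^ 2 := by
        rw [h2]
        exact (Nat.pow_le_pow_left h1 2).trans (Nat.pow_le_pow_right (by omega) (by omega))
      nlinarith
    rw [hf, pow_one] at h2
    refine SetLike.coe_injective (Set.eq_of_subset_of_ncard_le (by rw [Subfield.coe_top]; exact Set.subset_univ _) ?_ (Set.toFinite _))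
    rw [Subfield.coe_top, Set.ncard_univ, Nat.card_eq_fintype_card (α := L), hL, h2]
    exact le_of_eq (Nat.card_coe_set_eq _)
  have hl : l ∈ K := by rw [hK]; trivial
  obtain ⟨m, hm⟩ := hl
  have hm1 := hm 1
  rw [mul_one] at hm1
  rw [hm1, mul_div_cancel_right₀ _ fun h => one_ne_zero (hP 1 h), hm]

/-- The field endomorphism of an automorphism. -/
noncomputable def tau (e : MulAut C) : L →+* L where
  toFun l := S.PP e l / S.PP e 1
  map_one' := div_self fun h => one_ne_zero (S.PP_eq_zero hq e h)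
  map_mul' l l' := by rw [S.PP_semilinear hL hq, mul_div_assoc]
  map_zero' := by
    have := S.PP_add hq e 0 0
    rw [add_zero] at this
    rw [left_eq_add.1 this, zero_div]
  map_add' l l' := by rw [S.PP_add hq, add_div]

include hL hq in
theorem PP_eq_tau (e : MulAut C) (b : L) : S.PP e b = S.PP e 1 * S.tau hL hq e b :=
  (mul_div_cancel₀ _ fun h => one_ne_zero (S.PP_eq_zero hq e h)).symm

include hL hq in
theorem tau_mul (e f : MulAut C) (b : L) :
    S.tau hL hq (e * f) b = S.tau hL hq e (S.tau hL hq f b) := by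
  show S.PP (e * f) b / S.PP (e * f) 1 = S.tau hL hq e (S.PP f b / S.PP f 1)
  rw [S.PP_mul_auto hq, S.PP_mul_auto hq, S.PP_eq_tau hL hq e (S.PP f b),
    S.PP_eq_tau hL hq e (S.PP f 1), map_div₀]
  exact mul_div_mul_left _ _ fun h => one_ne_zero (S.PP_eq_zero hq e h)

include hL hq in
theorem tau_one (b : L) : S.tau hL hq 1 b = b := by
  show S.PP 1 b / S.PP 1 1 = b
  rw [S.PP_one, S.PP_one, div_one]

include hL hq in
theorem zc_auto (e : MulAut C) {s : C} (hs : s * s = 1) :
    S.zc (e s) = S.PP e 1 ^ (q + 1) * S.tau hL hq e (S.zc s) := by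
  obtain ⟨y, hy, rfl⟩ := S.exists_sqrt hL hs
  rw [map_mul, S.zc_sq _ (S.chi_auto hq e hy), S.lab_auto hq e hy, S.zc_sq _ hy,
    S.PP_eq_tau hL hq e (S.lab y), mul_pow, map_pow]

include hL in
theorem zc_fixed {s : C} (hs : s * s = 1) : S.zc s ^ q = S.zc s := by
  obtain ⟨y, hy, rfl⟩ := S.exists_sqrt hL hs
  have h := FiniteField.pow_card (S.lab y)
  rw [hL] at h
  rw [S.zc_sq _ hy, ← pow_mul, show (q + 1) * q = q ^ 2 + q by ring, pow_add, h, pow_succ']

include hL hq in
/-- A commutative group of automorphisms semiregular on the involutions commutes with `χ`. -/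
theorem chi_invariant {I : Type*} [Group I] [Finite I] (hI : ∀ i j : I, i * j = j * i)
    (hcard : Nat.card I = q - 1) (α : I →* MulAut C) {s0 : C} (hs0 : s0 * s0 = 1) (hs1 : s0 ≠ 1)
    (hinj : ∀ i j, α i s0 = α j s0 → i = j) (i : I) (g : C) : S.χ (α i g) = S.χ g := by
  classical
  have hq2 := S.two_le_q hL
  have hc0 : ∀ e, S.PP e 1 ≠ 0 := fun e h => one_ne_zero (S.PP_eq_zero hq e h)
  set K := fixedSub (powHom hL)
  have hmem : ∀ x : L, x ∈ K ↔ x ^ q = x := fun x => by rw [mem_fixedSub, powHom_apply]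
  have hKcard : Nat.card K = q := card_fixed_powHom hL
  have hτK : ∀ e, ∀ x ∈ K, S.tau hL hq e x ∈ K := fun e x hx => by
    rw [hmem] at hx ⊢
    rw [← map_pow, hx]
  let θ : I → K ≃+* K := fun i =>
    { toFun := fun x => ⟨S.tau hL hq (α i) x, hτK _ x x.2⟩
      invFun := fun x => ⟨S.tau hL hq (α i⁻¹) x, hτK _ x x.2⟩
      left_inv := fun x => Subtype.ext (by
        show S.tau hL hq (α i⁻¹) (S.tau hL hq (α i) x) = x
        rw [← S.tau_mul, ← map_mul, inv_mul_cancel, map_one, S.tau_one])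
      right_inv := fun x => Subtype.ext (by
        show S.tau hL hq (α i) (S.tau hL hq (α i⁻¹) x) = x
        rw [← S.tau_mul, ← map_mul, mul_inv_cancel, map_one, S.tau_one])
      map_mul' := fun x y => Subtype.ext (map_mul (S.tau hL hq (α i)) _ _)
      map_add' := fun x y => Subtype.ext (map_add (S.tau hL hq (α i)) _ _) }
  let Θ : I →* (K ≃+* K) :=
    { toFun := θ
      map_one' := RingEquiv.ext fun x => Subtype.ext (by
        show S.tau hL hq (α 1) x = x
        rw [map_one, S.tau_one])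
      map_mul' := fun i j => RingEquiv.ext fun x => Subtype.ext (by
        show S.tau hL hq (α (i * j)) x = S.tau hL hq (α i) (S.tau hL hq (α j) x)
        rw [map_mul, S.tau_mul]) }
  set H := Θ.range
  haveI : Finite H := Finite.of_surjective _ Θ.rangeRestrict_surjective
  haveI : Fintype H := Fintype.ofFinite _
  haveI : FaithfulSMul H K := ⟨fun {f f'} h => Subtype.ext (RingEquiv.ext fun x => h x)⟩
  set K0 := FixedPoints.subfield H K
  have hfin : Module.finrank K0 K = Fintype.card H := FixedPoints.finrank_eq_card H K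
  set q0 := Nat.card K0
  have hqpow : q = q0 ^ Fintype.card H := by
    rw [← hKcard, Module.natCard_eq_pow_finrank (K := K0) (V := K), hfin]
  have hq0 : 2 ≤ q0 := by
    have : Nontrivial K0 := inferInstance
    exact Finite.one_lt_card
  -- the multipliers of the kernel
  let r : I → L := fun i => S.PP (α i) 1 ^ (q + 1)
  have hrK : ∀ i, r i ∈ K := fun i => by
    rw [hmem]
    show (S.PP (α i) 1 ^ (q + 1)) ^ q = S.PP (α i) 1 ^ (q + 1)
    have h := FiniteField.pow_card (S.PP (α i) 1)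
    rw [hL] at h
    rw [← pow_mul, show (q + 1) * q = q ^ 2 + q by ring, pow_add, h, pow_succ']
  have hrmul : ∀ i j, r (i * j) = r i * S.tau hL hq (α i) (r j) := fun i j => by
    show S.PP (α (i * j)) 1 ^ (q + 1) = _
    rw [map_mul, S.PP_mul_auto hq, S.PP_eq_tau hL hq (α i), mul_pow, map_pow]
  have hr0 : ∀ i, r i ≠ 0 := fun i => pow_ne_zero _ (hc0 _)
  have hfix : ∀ i ∈ Θ.ker, (⟨r i, hrK i⟩ : K) ∈ K0 := by
    intro i hi
    rintro ⟨_, j, rfl⟩
    refine Subtype.ext ?_
    show S.tau hL hq (α j) (r i) = r i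
    have hτ : ∀ x ∈ K, S.tau hL hq (α i) x = x := fun x hx =>
      congrArg (fun f : K ≃+* K => (f ⟨x, hx⟩ : L)) (MonoidHom.mem_ker.1 hi)
    have h1 := hrmul i j
    rw [hI i j, hrmul j i, hτ _ (hrK j)] at h1
    exact mul_left_cancel₀ (hr0 j) (h1.trans (mul_comm _ _))
  have hker : Nat.card Θ.ker ≤ q0 - 1 := by
    have h0 : S.zc s0 ≠ 0 := fun h => hs1 (S.zc_inj _ hs0 h)
    have hinjr : Function.Injective (fun i : Θ.ker =>
        (⟨⟨⟨r i, hrK i⟩, hfix i i.2⟩, fun h => hr0 i
          (congrArg (fun z : K0 => ((z : K) : L)) h)⟩ : {z : K0 // z ≠ 0})) := by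
      intro i j h
      have e : r i = r j := congrArg (fun z : {z : K0 // z ≠ 0} => (((z : K0) : K) : L)) h
      have hτ : ∀ (k : Θ.ker), S.tau hL hq (α k) (S.zc s0) = S.zc s0 := fun k =>
        congrArg (fun f : K ≃+* K => (f ⟨S.zc s0, (hmem _).2 (S.zc_fixed hL hs0)⟩ : L))
          (MonoidHom.mem_ker.1 k.2)
      have hsi : α (i : I) s0 * α (i : I) s0 = 1 := by rw [← map_mul, hs0, map_one]
      have hsj : α (j : I) s0 * α (j : I) s0 = 1 := by rw [← map_mul, hs0, map_one]
      have hz : S.zc (α (i : I) s0 * α (j : I) s0) = 0 := by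
        rw [S.zc_add _ _ hsi hsj, S.zc_auto hL hq _ hs0, S.zc_auto hL hq _ hs0, hτ, hτ]
        show r i * _ + r j * _ = 0
        rw [e, CharTwo.add_self_eq_zero]
      have hc := (S.sq_one _ hsi).2 (α (j : I) s0)
      have h2 := S.zc_inj _ (by
        calc α (i : I) s0 * α (j : I) s0 * (α (i : I) s0 * α (j : I) s0)
            = α (i : I) s0 * α (j : I) s0 * (α (j : I) s0 * α (i : I) s0) := by rw [← hc]
          _ = α (i : I) s0 * (α (j : I) s0 * α (j : I) s0) * α (i : I) s0 := by group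
          _ = 1 := by rw [hsj, mul_one, hsi]) hz
      refine Subtype.ext (hinj _ _ ?_)
      rw [mul_eq_one_iff_eq_inv.1 h2, inv_eq_of_mul_eq_one_right hsj]
    refine (Nat.card_le_card_of_injective _ hinjr).trans ?_
    haveI : Fintype K0 := Fintype.ofFinite _
    rw [Nat.card_eq_fintype_card, Fintype.card_subtype_compl, Fintype.card_subtype_eq,
      ← Nat.card_eq_fintype_card]
  have hH1 : Fintype.card H = 1 := by
    have hpos : 0 < Fintype.card H := Fintype.card_pos
    by_contra hne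
    have h1 : Nat.card Θ.ker * Fintype.card H = q - 1 := by
      rw [← hcard, ← Subgroup.card_mul_index Θ.ker, Subgroup.index_ker, Nat.card_eq_fintype_card (α := H)]
    have h2 := mul_pred_lt_pow hq0 (Fintype.card H) (by omega)
    rw [← hqpow] at h2
    have h3 := Nat.mul_le_mul_right (Fintype.card H) hker
    rw [h1, mul_comm] at h3
    omega
  have hτid : ∀ (i : I), ∀ x ∈ K, S.tau hL hq (α i) x = x := by
    intro i x hx
    haveI := Fintype.card_le_one_iff_subsingleton.1 hH1.le
    have h : (⟨Θ i, ⟨i, rfl⟩⟩ : H) = 1 := Subsingleton.elim _ _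
    exact congrArg (fun f : K ≃+* K => (f ⟨x, hx⟩ : L)) (congrArg Subtype.val h)
  -- the quadratic extension
  have hσ := powHom_isInvol hL
  obtain ⟨w, hw⟩ := hσ.exists_trace_ne_zero
  rw [powHom_apply] at hw
  have hpq : ∀ x y : L, (x + y) ^ q = x ^ q + y ^ q := fun x y => map_add (powHom hL) x y
  have hqq : ∀ x : L, (x ^ q) ^ q = x := fun x => hσ.invol x
  have htr : ∀ b : L, b + b ^ q ∈ K := fun b => (hmem _).2 (by rw [hpq, hqq, add_comm])
  have hspan : ∀ b : L, ∃ u ∈ K, ∃ v ∈ K, b = u + v * w := by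
    intro b
    set v := (b + b ^ q) / (w + w ^ q) with hv
    have hvK : v ∈ K := div_mem (htr b) (htr w)
    refine ⟨b + v * w, (hmem _).2 ?_, v, hvK, by rw [add_assoc, CharTwo.add_self_eq_zero, add_zero]⟩
    have e : v * (w + w ^ q) = b + b ^ q := div_mul_cancel₀ _ hw
    rw [hpq, mul_pow, (hmem _).1 hvK]
    linear_combination e + (b ^ q) * CharTwo.two_eq_zero (R := L) -
      (v * w) * CharTwo.two_eq_zero (R := L)
  have hroot : ∀ i, S.tau hL hq (α i) w = w ∨ S.tau hL hq (α i) w = w ^ q := by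
    intro i
    set τ := S.tau hL hq (α i)
    have h1 : τ w + (τ w) ^ q = w + w ^ q := by rw [← map_pow, ← map_add]; exact hτid i _ (htr w)
    have h2 : τ w * (τ w) ^ q = w * w ^ q := by
      rw [← map_pow, ← map_mul]
      exact hτid i _ ((hmem _).2 (by rw [mul_pow, hqq, mul_comm]))
    have : (τ w - w) * (τ w - w ^ q) = 0 := by linear_combination τ w * h1 - h2
    rcases mul_eq_zero.1 this with h | h
    · exact Or.inl (sub_eq_zero.1 h)
    · exact Or.inr (sub_eq_zero.1 h)
  have hsq : ∀ i, S.tau hL hq (α (i ^ 2)) w = w := by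
    intro i
    rw [pow_two, map_mul, S.tau_mul]
    rcases hroot i with h | h
    · rw [h, h]
    · rw [h, map_pow, h, hqq]
  have hid : ∀ b, S.tau hL hq (α i) b = b := by
    have hi : i = (i ^ (q / 2)) ^ 2 := by
      obtain ⟨k, hk⟩ := hq
      rw [← pow_mul, show q / 2 * 2 = q - 1 + 1 by omega, pow_succ, ← hcard, pow_card_eq_one', one_mul]
    intro b
    obtain ⟨u, hu, v, hv, rfl⟩ := hspan b
    rw [map_add, map_mul, hτid i u hu, hτid i v hv]
    rw [hi, hsq]
  have h := S.PP_chi hq (α i) g 1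
  rw [mul_one, S.PP_eq_tau hL hq, hid, mul_comm] at h
  exact (Units.ext (mul_right_cancel₀ (hc0 _) h)).symm

end CentShape

end CfsgLib.Known.UThreeEven
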