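import Cfsg.Agent.Lib.Known.UThreeEven.Torus
import Cfsg.Agent.Lib.Lie.RankOneClass.Basic

/-!
# The doubly transitive action on the Sylow 2-subgroups
-/

set_option autoImplicit false
set_option linter.all false

namespace CfsgLib.Known.UThreeEven

open MulAction Subgroup CfsgLib.Lie.RankOneClass

universe u v

variable {G : Type u} [Group G] [Finite G] {L : Type v} [Field L] [Fintype L] [CharP L 2] {q : ℕ}

namespace Hyp

variable (h : Hyp G L q)
include h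

theorem stab_trans_points {a b c : Sylow 2 G} (hb : b ≠ a) (hc : c ≠ a) :
    ∃ g ∈ stabilizer G a, g • b = c := by
  obtain ⟨y, hy, e⟩ := h.exists_smul hb.symm hc
  exact ⟨y, mem_stabilizer_iff.2 (Sylow.smul_eq_iff_mem_normalizer.2 (le_normalizer hy)), e⟩

theorem two_transitive : IsMultiplyPretransitive G (Sylow 2 G) 2 := by
  haveI : Fact (Nat.Prime 2) := ⟨Nat.prime_two⟩
  rw [is_two_pretransitive_iff]
  intro a b c d hab hcd
  obtain ⟨g, hg⟩ := MulAction.exists_smul_eq G a c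
  have hne : g • b ≠ c := fun e => hab (smul_left_cancel g (hg.trans e.symm))
  obtain ⟨k, hk, e⟩ := h.stab_trans_points hne hcd.symm
  exact ⟨k * g, by rw [mul_smul, hg, mem_stabilizer_iff.1 hk], by rw [mul_smul, e]⟩

/-- The rank one setup. -/
theorem setup {a b : Sylow 2 G} {t : G} (hab : a ≠ b) (ht : Swaps t a b) :
    Cfsg.IsRankOneSetup G (Sylow 2 G) a t (a : Subgroup G) := by
  haveI : Fact (Nat.Prime 2) := ⟨Nat.prime_two⟩
  have hle : (a : Subgroup G) ≤ stabilizer G a := fun y hy =>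
    mem_stabilizer_iff.2 (Sylow.smul_eq_iff_mem_normalizer.2 (le_normalizer hy))
  refine ⟨h.two_transitive, (orderOf_two_iff.1 ht.1).1, (orderOf_two_iff.1 ht.1).2, fun e => ?_, hle,
    fun k hk y hy => (mem_normalizer_iff.1
      (Sylow.smul_eq_iff_mem_normalizer.1 (mem_stabilizer_iff.1 hk)) y).1 hy, ?_, ?_, ?_, ?_⟩
  · exact hab ((mem_stabilizer_iff.1 e).symm.trans ht.2)
  · rw [eq_bot_iff, ht.2]
    intro y hy
    exact h.eq_one_of_mem_DD hab ⟨hle hy.1, hy.2⟩ hy.1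
  · refine le_antisymm (sup_le hle inf_le_left) fun g hg => ?_
    have hne : g • b ≠ a := fun e =>
      hab (smul_left_cancel g (e.trans (mem_stabilizer_iff.1 hg).symm)).symm
    obtain ⟨y, hy, e⟩ := h.exists_smul hab hne
    have hd : y⁻¹ * g ∈ stabilizer G a ⊓ stabilizer G (t • a) := by
      refine Subgroup.mem_inf.2 ⟨mul_mem (inv_mem (hle hy)) hg, mem_stabilizer_iff.2 ?_⟩
      rw [ht.2, mul_smul, ← e, inv_smul_smul]
    rw [show g = y * (y⁻¹ * g) by group]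
    exact mul_mem (Subgroup.mem_sup_left hy) (Subgroup.mem_sup_right hd)
  · rw [h.card_sylow]
    exact (Nat.even_pow.2 ⟨h.even_q, by norm_num⟩)
  · rw [← Nat.not_even_iff_odd, even_iff_two_dvd]
    intro h2
    obtain ⟨⟨d, hd⟩, ho⟩ := exists_prime_orderOf_dvd_card' 2 h2
    rw [Subgroup.orderOf_mk] at ho
    have := h.odd_DD hab (d := d) (by rwa [← ht.2])
    rw [ho] at this
    exact absurd this (by decide)

theorem mem_inv_stab {a : Sylow 2 G} {y : G} :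
    y ∈ Cfsg.involutionsIn (stabilizer G a : Set G) ↔ y ∈ (a : Subgroup G) ∧ orderOf y = 2 := by
  constructor
  · rintro ⟨hy, h1, h2⟩
    have ho : orderOf y = 2 := orderOf_two_iff.2 ⟨h2, h1⟩
    exact ⟨(h.fix_iff ho).1 (mem_stabilizer_iff.1 hy), ho⟩
  · rintro ⟨hy, ho⟩
    exact ⟨mem_stabilizer_iff.2 ((h.fix_iff ho).2 hy), (orderOf_two_iff.1 ho).2, (orderOf_two_iff.1 ho).1⟩

theorem qq_eq (a : Sylow 2 G) : qq G a = q := by
  rw [qq, ← Nat.card_congr (Equiv.subtypeEquivRight fun y => (h.mem_inv_stab (a := a) (y := y)).symm),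
    h.card_J]
  have := h.two_lt
  omega

theorem mem_Wg_iff {a b : Sylow 2 G} {t x w : G} (hab : a ≠ b) (ht : Swaps t a b)
    (hx : x ∈ (a : Subgroup G) ∧ orderOf x = 2) :
    w ∈ Wg a t ↔ w ∈ DD a b ∧ w ∈ centralizer ({x} : Set G) := by
  rw [Wg, ht.2, Subgroup.mem_inf]
  refine and_congr_right fun _ => ⟨fun hw => mem_centralizer_singleton_iff.2
    ((mem_centralizer_iff.1 hw x (h.mem_inv_stab.2 hx)).symm), fun hw => mem_centralizer_iff.2 fun s hs => ?_⟩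
  have hwc : w ∈ centralizer ({s} : Set G) := by
    rw [h.cent_const hx (h.mem_inv_stab.1 hs)]; exact hw
  exact (mem_centralizer_singleton_iff.1 hwc).symm

theorem card_DD {a b : Sylow 2 G} (hab : a ≠ b) : Nat.card (DD a b) = (q + 1) * (q - 1) := by
  set N := stabilizer G a
  have hle : (a : Subgroup G) ≤ N := fun y hy =>
    mem_stabilizer_iff.2 (Sylow.smul_eq_iff_mem_normalizer.2 (le_normalizer hy))
  let f : ↥(a : Subgroup G) × DD a b → N := fun p => ⟨p.1.1 * p.2.1, mul_mem (hle p.1.2) p.2.2.1⟩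
  have hf : Function.Bijective f := by
    refine ⟨fun p r e => ?_, fun g => ?_⟩
    · have e' : p.1.1 * p.2.1 = r.1.1 * r.2.1 := congrArg Subtype.val e
      have h1 : r.1.1⁻¹ * p.1.1 = 1 := h.eq_one_of_mem_DD hab (by
        rw [show r.1.1⁻¹ * p.1.1 = r.2.1 * p.2.1⁻¹ by
          rw [eq_mul_inv_iff_mul_eq, mul_assoc, e', inv_mul_cancel_left]]
        exact mul_mem r.2.2 (inv_mem p.2.2)) (mul_mem (inv_mem r.1.2) p.1.2)
      have h2 : p.1 = r.1 := Subtype.ext (inv_mul_eq_one.1 h1).symm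
      rw [h2] at e'
      exact Prod.ext h2 (Subtype.ext (mul_left_cancel e'))
    · have hne : (g : G) • b ≠ a := fun e =>
        hab (smul_left_cancel (g : G) (e.trans (mem_stabilizer_iff.1 g.2).symm)).symm
      obtain ⟨y, hy, e⟩ := h.exists_smul hab hne
      refine ⟨(⟨y, hy⟩, ⟨y⁻¹ * g, Subgroup.mem_inf.2 ⟨mul_mem (inv_mem (hle hy)) g.2, mem_stabilizer_iff.2 ?_⟩⟩),
        Subtype.ext (mul_inv_cancel_left y g)⟩
      rw [mul_smul, ← e, inv_smul_smul]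
  have h1 := Nat.card_eq_of_bijective f hf
  rw [Nat.card_prod, h.card_sylow, h.card_stab, mul_assoc] at h1
  exact Nat.eq_of_mul_eq_mul_left (pow_pos (by have := h.two_lt; omega) 3) h1

theorem card_Wg {a b : Sylow 2 G} {t : G} (hab : a ≠ b) (ht : Swaps t a b) :
    Nat.card (Wg a t) = q + 1 := by
  obtain ⟨x, hx⟩ := h.exists_J a
  let f : h.tor hab ht × Wg a t → DD a b := fun p =>
    ⟨p.1.1 * p.2.1, mul_mem p.1.2.1 ((h.mem_Wg_iff hab ht hx).1 p.2.2).1⟩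
  have hf : Function.Bijective f := by
    refine ⟨fun p r e => ?_, fun d => ?_⟩
    · have e' : p.1.1 * p.2.1 = r.1.1 * r.2.1 := congrArg Subtype.val e
      have hm : r.1.1⁻¹ * p.1.1 ∈ h.tor hab ht := mul_mem (inv_mem r.1.2) p.1.2
      have h1 : r.1.1⁻¹ * p.1.1 = 1 := h.inverted_cent hab ht hx hm.1 hm.2 (by
        rw [show r.1.1⁻¹ * p.1.1 = r.2.1 * p.2.1⁻¹ by
          rw [eq_mul_inv_iff_mul_eq, mul_assoc, e', inv_mul_cancel_left]]
        exact mul_mem ((h.mem_Wg_iff hab ht hx).1 r.2.2).2 (inv_mem ((h.mem_Wg_iff hab ht hx).1 p.2.2).2))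
      have h2 : p.1 = r.1 := Subtype.ext (inv_mul_eq_one.1 h1).symm
      rw [h2] at e'
      exact Prod.ext h2 (Subtype.ext (mul_left_cancel e'))
    · obtain ⟨i, hi, g, hg, hii, hgc, e⟩ := h.decomp hab ht hx d.2
      exact ⟨(⟨i, hi, hii⟩, ⟨g, (h.mem_Wg_iff hab ht hx).2 ⟨hg, hgc⟩⟩), Subtype.ext e.symm⟩
  have h1 := Nat.card_eq_of_bijective f hf
  rw [Nat.card_prod, h.card_tor, h.card_DD hab, mul_comm (q + 1)] at h1
  exact Nat.eq_of_mul_eq_mul_left (by have := h.two_lt; omega) h1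

theorem Wg_comm {a b : Sylow 2 G} {t v w : G} (hab : a ≠ b) (ht : Swaps t a b) (hv : v ∈ Wg a t)
    (hw : w ∈ Wg a t) : v * w = w * v := by
  obtain ⟨x, hx⟩ := h.exists_J a
  obtain ⟨hv1, hv2⟩ := (h.mem_Wg_iff hab ht hx).1 hv
  obtain ⟨hw1, hw2⟩ := (h.mem_Wg_iff hab ht hx).1 hw
  exact h.cent_comm hab hx hv1 hv2 hw1 hw2

theorem Wg_fix_Q {a b : Sylow 2 G} {t w y : G} (hab : a ≠ b) (ht : Swaps t a b) (hw : w ∈ Wg a t)
    (hw1 : w ≠ 1) (hy : y ∈ (a : Subgroup G)) (hc : w * y = y * w) :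
    y = 1 ∨ y ∈ Cfsg.involutionsIn (stabilizer G a : Set G) := by
  obtain ⟨x, hx⟩ := h.exists_J a
  obtain ⟨hwD, hwc⟩ := (h.mem_Wg_iff hab ht hx).1 hw
  set C := centralizer ({x} : Set G)
  set S := h.shp hx.2
  have hyc : y ∈ C := h.mem_cent_of_J hx hy
  have hχy : S.χ ⟨y, hyc⟩ = 1 := by
    obtain ⟨y', hy', e⟩ := (h.sylow_eq hx.2 hx.1 ▸ hy : y ∈ h.Qs hx.2)
    rw [show (⟨y, hyc⟩ : C) = y' from Subtype.ext e.symm]
    exact hy'
  have hχw : S.χ ⟨w, hwc⟩ ≠ 1 := by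
    intro e
    refine hw1 (h.eq_one_of_mem_DD hab hwD ?_)
    rw [h.sylow_eq hx.2 hx.1]
    exact ⟨⟨w, hwc⟩, e, rfl⟩
  have h1 : y * y = 1 := congrArg Subtype.val (S.sq_eq_one_of_commute hχw hχy (Subtype.ext hc))
  by_cases hy1 : y = 1
  · exact Or.inl hy1
  · exact Or.inr (h.mem_inv_stab.2 ⟨hy, orderOf_two_iff.2 ⟨h1, hy1⟩⟩)

theorem klein : ∃ x y : G, x ≠ 1 ∧ y ≠ 1 ∧ x ≠ y ∧ x * x = 1 ∧ y * y = 1 ∧ x * y = y * x := by
  obtain ⟨z, hz⟩ := h.exists_inv
  obtain ⟨a, -⟩ := h.exists_point hz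
  have h1 := h.card_J a
  have : Nontrivial (J a) := Finite.one_lt_card_iff_nontrivial.1 (by
    have := h.two_lt
    have := h.even_q
    rcases this with ⟨k, rfl⟩
    omega)
  obtain ⟨x, y, hxy⟩ := this
  refine ⟨x.1, y.1, (orderOf_two_iff.1 x.2.2).2, (orderOf_two_iff.1 y.2.2).2,
    fun e => hxy (Subtype.ext e), (orderOf_two_iff.1 x.2.2).1, (orderOf_two_iff.1 y.2.2).1, ?_⟩
  exact (mem_centralizer_singleton_iff.1 (h.mem_cent_of_J x.2 y.2.1)).symm

end Hyp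

end CfsgLib.Known.UThreeEven
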