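import Cfsg.Agent.Lib.Known.UThreeEven.Pairs
import Cfsg.Agent.Lib.Known.UThreeEven.Semilinear

/-!
# The two-point stabilisers and the transitivity of `Q` on the other points
-/

set_option autoImplicit false
set_option linter.all false

namespace CfsgLib.Known.UThreeEven

open MulAction Subgroup

universe u v

variable {G : Type u} [Group G] [Finite G] {L : Type v} [Field L] [Fintype L] [CharP L 2] {q : ℕ}

namespace Hyp

variable (h : Hyp G L q)
include h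

theorem cent_comm {a b : Sylow 2 G} (hab : a ≠ b) {x f g : G}
    (hx : x ∈ (a : Subgroup G) ∧ orderOf x = 2) (hf : f ∈ DD a b) (hfc : f ∈ centralizer ({x} : Set G))
    (hg : g ∈ DD a b) (hgc : g ∈ centralizer ({x} : Set G)) : f * g = g * f := by
  have h1 : f * g * f⁻¹ * g⁻¹ ∈ (a : Subgroup G) := by
    rw [h.sylow_eq hx.2 hx.1]
    refine ⟨⟨f, hfc⟩ * ⟨g, hgc⟩ * (⟨f, hfc⟩)⁻¹ * (⟨g, hgc⟩)⁻¹, ?_, by simp⟩
    rw [SetLike.mem_coe, MonoidHom.mem_ker, map_mul, map_mul, map_mul, map_inv, map_inv,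
      mul_comm ((h.shp hx.2).χ ⟨f, hfc⟩), mul_inv_cancel_right, mul_inv_cancel]
  have h2 := h.eq_one_of_mem_DD hab (mul_mem (mul_mem (mul_mem hf hg) (inv_mem hf)) (inv_mem hg)) h1
  rwa [mul_inv_eq_one, mul_inv_eq_iff_eq_mul] at h2

/-- An inverted element commutes with the centraliser part. -/
theorem inverted_comm {a b : Sylow 2 G} (hab : a ≠ b) {t x i f : G} (ht : Swaps t a b)
    (hx : x ∈ (a : Subgroup G) ∧ orderOf x = 2) (hi : i ∈ DD a b) (hii : t * i * t⁻¹ = i⁻¹)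
    (hf : f ∈ DD a b) (hfc : f ∈ centralizer ({x} : Set G)) : i * f = f * i := by
  set g := i * f * i⁻¹ with hg
  have hgD : g ∈ DD a b := mul_mem (mul_mem hi hf) (inv_mem hi)
  have hgc : g ∈ centralizer ({x} : Set G) := by
    rw [h.mem_cent_iff hab hx hgD, hg, conj_pow, (h.mem_cent_iff hab hx hf).1 hfc, mul_one,
      mul_inv_cancel]
  have h1 := h.swap_fix hab ht hx hgD hgc
  have h2 : t * g * t⁻¹ = i⁻¹ * f * i := by
    rw [hg]
    calc t * (i * f * i⁻¹) * t⁻¹ = (t * i * t⁻¹) * (t * f * t⁻¹) * (t * i * t⁻¹)⁻¹ := by group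
      _ = _ := by rw [hii, h.swap_fix hab ht hx hf hfc, inv_inv]
  rw [h1, hg] at h2
  have h3 : Commute f (i ^ 2) := by
    show f * i ^ 2 = i ^ 2 * f
    calc f * i ^ 2 = i * (i⁻¹ * f * i) * i := by rw [pow_two]; group
      _ = i * (i * f * i⁻¹) * i := by rw [h2]
      _ = i ^ 2 * f := by rw [pow_two]; group
  obtain ⟨k, hk⟩ := h.odd_DD hab hi
  have hii' : i = (i ^ 2) ^ (k + 1) := by
    rw [← pow_mul, show 2 * (k + 1) = orderOf i + 1 by omega, pow_succ, pow_orderOf_eq_one, one_mul]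
  rw [hii']
  exact (h3.pow_right _).symm.eq

theorem decomp {a b : Sylow 2 G} (hab : a ≠ b) {t x d : G} (ht : Swaps t a b)
    (hx : x ∈ (a : Subgroup G) ∧ orderOf x = 2) (hd : d ∈ DD a b) :
    ∃ i ∈ DD a b, ∃ f ∈ DD a b, t * i * t⁻¹ = i⁻¹ ∧ f ∈ centralizer ({x} : Set G) ∧ d = i * f := by
  obtain ⟨i, hi, hii, he⟩ := h.inverted_surj hab ht hx
    (h.conj_mem_J (mem_stabilizer_iff.2 (mem_DD.1 hd).1) hx)
  refine ⟨i, hi, i⁻¹ * d, mul_mem (inv_mem hi) hd, hii, ?_, by group⟩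
  rw [mem_centralizer_singleton_iff]
  calc i⁻¹ * d * x = i⁻¹ * (d * x * d⁻¹) * d := by group
    _ = x * (i⁻¹ * d) := by rw [← he]; group

theorem eq_one_of_pows {a b : Sylow 2 G} (hab : a ≠ b) {x c : G}
    (hx : x ∈ (a : Subgroup G) ∧ orderOf x = 2) (hc : c ∈ DD a b)
    (hcc : c ∈ centralizer ({x} : Set G)) (h1 : c ^ (q - 1) = 1) : c = 1 :=
  orderOf_eq_one_iff.1 (Nat.eq_one_of_dvd_coprimes h.coprime_q (orderOf_dvd_of_pow_eq_one h1)
    (orderOf_dvd_of_pow_eq_one ((h.mem_cent_iff hab hx hc).1 hcc)))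

theorem inverted_iff {a b : Sylow 2 G} (hab : a ≠ b) {t d : G} (ht : Swaps t a b) (hd : d ∈ DD a b) :
    t * d * t⁻¹ = d⁻¹ ↔ d ^ (q - 1) = 1 := by
  obtain ⟨x, hx⟩ := h.exists_J a
  have key : ∀ e ∈ DD a b, t * e * t⁻¹ = e⁻¹ → e ^ (q - 1) = 1 := fun e he hei =>
    h.inverted_cent hab ht hx (pow_mem he _) (by rw [← conj_pow, hei, inv_pow])
      (h.pow_mem_cent hx (mem_stabilizer_iff.2 (mem_DD.1 he).1))
  refine ⟨key d hd, fun h1 => ?_⟩
  obtain ⟨i, hi, f, hf, hii, hfc, rfl⟩ := h.decomp hab ht hx hd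
  have hc : Commute i f := h.inverted_comm hab ht hx hi hii hf hfc
  rw [hc.mul_pow, key i hi hii, one_mul] at h1
  rw [h.eq_one_of_pows hab hx hf hfc h1, mul_one, hii]

theorem inverted_commute {a b : Sylow 2 G} (hab : a ≠ b) {t i j : G} (ht : Swaps t a b)
    (hi : i ∈ DD a b) (hii : t * i * t⁻¹ = i⁻¹) (hj : j ∈ DD a b) (hjj : t * j * t⁻¹ = j⁻¹) :
    i * j = j * i := by
  obtain ⟨x, hx⟩ := h.exists_J a
  obtain ⟨k, hk, f, hf, hkk, hfc, he⟩ := h.decomp hab ht hx (mul_mem hi hj)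
  have hkf : k * f = f * k := h.inverted_comm hab ht hx hk hkk hf hfc
  have h1 : i⁻¹ * j⁻¹ = k⁻¹ * f := by
    calc i⁻¹ * j⁻¹ = (t * i * t⁻¹) * (t * j * t⁻¹) := by rw [hii, hjj]
      _ = t * (i * j) * t⁻¹ := by group
      _ = (t * k * t⁻¹) * (t * f * t⁻¹) := by rw [he]; group
      _ = k⁻¹ * f := by rw [hkk, h.swap_fix hab ht hx hf hfc]
  have hji : j * i = f⁻¹ * k := by
    have := congrArg (·⁻¹) h1
    simpa [mul_inv_rev] using this
  set c := i * j * i⁻¹ * j⁻¹ with hc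
  have hcf : c = f * f := by
    rw [hc, show i * j * i⁻¹ * j⁻¹ = i * j * (j * i)⁻¹ by group, he, hji, mul_inv_rev, inv_inv]
    calc k * f * (k⁻¹ * f) = f * k * (k⁻¹ * f) := by rw [hkf]
      _ = f * f := by group
  have hcD : c ∈ DD a b := by rw [hcf]; exact mul_mem hf hf
  have hcC : c ∈ centralizer ({x} : Set G) := by rw [hcf]; exact mul_mem hfc hfc
  have hpow : ∀ m : ℕ, i ^ m * j * (i ^ m)⁻¹ = c ^ m * j := by
    intro m
    induction m with
    | zero => simp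
    | succ m ih =>
      have hic : Commute i (c ^ m) :=
        Commute.pow_right (h.inverted_comm hab ht hx hi hii hcD hcC) m
      rw [pow_succ' i, mul_inv_rev]
      calc i * i ^ m * j * ((i ^ m)⁻¹ * i⁻¹) = i * (i ^ m * j * (i ^ m)⁻¹) * i⁻¹ := by group
        _ = i * c ^ m * (j * i⁻¹) := by rw [ih]; group
        _ = c ^ m * i * (j * i⁻¹) := by rw [hic.eq]
        _ = c ^ m * c * j := by rw [hc]; group
        _ = _ := by rw [pow_succ]
  have h2 := hpow (q - 1)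
  rw [(h.inverted_iff hab ht hi).1 hii, inv_one, one_mul, mul_one] at h2
  have h3 := h.eq_one_of_pows hab hx hcD hcC (right_eq_mul.1 h2)
  rw [hc, mul_inv_eq_one, mul_inv_eq_iff_eq_mul] at h3
  exact h3

/-- The torus: the inverted elements. -/
def tor {a b : Sylow 2 G} {t : G} (hab : a ≠ b) (ht : Swaps t a b) : Subgroup G where
  carrier := {d | d ∈ DD a b ∧ t * d * t⁻¹ = d⁻¹}
  one_mem' := ⟨one_mem _, by simp⟩
  mul_mem' := by
    rintro i j ⟨hi, hii⟩ ⟨hj, hjj⟩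
    refine ⟨mul_mem hi hj, ?_⟩
    rw [show t * (i * j) * t⁻¹ = (t * i * t⁻¹) * (t * j * t⁻¹) by group, hii, hjj, mul_inv_rev]
    exact (Commute.inv_inv (h.inverted_commute hab ht hi hii hj hjj)).eq
  inv_mem' := by
    rintro i ⟨hi, hii⟩
    exact ⟨inv_mem hi, by rw [show t * i⁻¹ * t⁻¹ = (t * i * t⁻¹)⁻¹ by group, hii]⟩

theorem mem_tor {a b : Sylow 2 G} {t d : G} (hab : a ≠ b) (ht : Swaps t a b) :
    d ∈ h.tor hab ht ↔ d ∈ DD a b ∧ d ^ (q - 1) = 1 :=
  ⟨fun hd => ⟨hd.1, (h.inverted_iff hab ht hd.1).1 hd.2⟩,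
    fun hd => ⟨hd.1, (h.inverted_iff hab ht hd.1).2 hd.2⟩⟩

theorem tor_comm {a b : Sylow 2 G} {t : G} (hab : a ≠ b) (ht : Swaps t a b) {i j : G}
    (hi : i ∈ h.tor hab ht) (hj : j ∈ h.tor hab ht) : i * j = j * i :=
  h.inverted_commute hab ht hi.1 hi.2 hj.1 hj.2

theorem card_tor {a b : Sylow 2 G} {t : G} (hab : a ≠ b) (ht : Swaps t a b) :
    Nat.card (h.tor hab ht) = q - 1 := by
  obtain ⟨x, hx⟩ := h.exists_J a
  rw [← h.card_J a]
  refine Nat.card_eq_of_bijective (fun i => (⟨i.1 * x * i.1⁻¹,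
    h.conj_mem_J (mem_stabilizer_iff.2 (mem_DD.1 i.2.1).1) hx⟩ : J a)) ⟨fun i j e => ?_, fun y => ?_⟩
  · exact Subtype.ext (h.inverted_inj hab ht hx i.2.1 j.2.1 i.2.2 j.2.2 (congrArg Subtype.val e))
  · obtain ⟨d, hd, hdd, he⟩ := h.inverted_surj hab ht hx y.2
    exact ⟨⟨d, hd, hdd⟩, Subtype.ext he⟩

theorem tor_le_stab {a b : Sylow 2 G} {t i : G} (hab : a ≠ b) (ht : Swaps t a b)
    (hi : i ∈ h.tor hab ht) : i ∈ stabilizer G a :=
  mem_stabilizer_iff.2 (mem_DD.1 hi.1).1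

theorem conj_cent {a : Sylow 2 G} {x g k : G} (hx : x ∈ (a : Subgroup G) ∧ orderOf x = 2)
    (hg : g ∈ stabilizer G a) (hk : k ∈ centralizer ({x} : Set G)) :
    g * k * g⁻¹ ∈ centralizer ({x} : Set G) := by
  rw [← h.cent_const hx (h.conj_mem_J hg hx), mem_centralizer_singleton_iff]
  calc g * k * g⁻¹ * (g * x * g⁻¹) = g * (k * x) * g⁻¹ := by group
    _ = g * (x * k) * g⁻¹ := by rw [mem_centralizer_singleton_iff.1 hk]
    _ = g * x * g⁻¹ * (g * k * g⁻¹) := by group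

/-- The stabiliser of a point commutes with the character of the centraliser. -/
theorem chi_conj {a : Sylow 2 G} {x g k : G} (hx : x ∈ (a : Subgroup G) ∧ orderOf x = 2)
    (hg : g ∈ stabilizer G a) (hk : k ∈ centralizer ({x} : Set G)) :
    (h.shp hx.2).χ ⟨g * k * g⁻¹, h.conj_cent hx hg hk⟩ = (h.shp hx.2).χ ⟨k, hk⟩ := by
  set C := centralizer ({x} : Set G)
  set S := h.shp hx.2
  obtain ⟨b, hb⟩ := h.exists_ne a
  obtain ⟨t, ht⟩ := h.exists_swap hb.symm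
  obtain ⟨i, hi, hii, he⟩ := h.inverted_surj hb.symm ht hx (h.conj_mem_J hg hx)
  have hit : i ∈ h.tor hb.symm ht := ⟨hi, hii⟩
  set f := i⁻¹ * g with hf
  have hfc : f ∈ C := by
    rw [mem_centralizer_singleton_iff, hf]
    calc i⁻¹ * g * x = i⁻¹ * (g * x * g⁻¹) * g := by group
      _ = x * (i⁻¹ * g) := by rw [← he]; group
  set I := h.tor hb.symm ht
  let α : I →* MulAut C :=
    { toFun := fun j =>
        { toFun := fun c => ⟨(j : G) * c * (j : G)⁻¹, h.conj_cent hx (h.tor_le_stab _ _ j.2) c.2⟩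
          invFun := fun c => ⟨(j : G)⁻¹ * c * (j : G), by
            have := h.conj_cent hx (inv_mem (h.tor_le_stab _ _ j.2)) c.2
            rwa [inv_inv] at this⟩
          left_inv := fun c => Subtype.ext (by
            show (j : G)⁻¹ * ((j : G) * c * (j : G)⁻¹) * j = c
            group)
          right_inv := fun c => Subtype.ext (by
            show (j : G) * ((j : G)⁻¹ * c * (j : G)) * (j : G)⁻¹ = c
            group)
          map_mul' := fun c c' => Subtype.ext (by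
            show (j : G) * (c * c' : G) * (j : G)⁻¹ = (j : G) * c * (j : G)⁻¹ * ((j : G) * c' * (j : G)⁻¹)
            group) }
      map_one' := by ext c; simp
      map_mul' := fun j j' => by ext c; simp [mul_assoc] }
  have hxC : x ∈ C := mem_centralizer_singleton_iff.2 rfl
  have hinv := S.chi_invariant h.card_L h.even_q (I := I)
    (fun j j' => Subtype.ext (h.tor_comm _ _ j.2 j'.2)) (h.card_tor _ _) α
    (s0 := ⟨x, hxC⟩) (Subtype.ext (orderOf_two_iff.1 hx.2).1)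
    (fun e => (orderOf_two_iff.1 hx.2).2 (congrArg Subtype.val e))
    (fun j j' e => Subtype.ext (h.inverted_inj hb.symm ht hx j.2.1 j'.2.1 j.2.2 j'.2.2
      (congrArg Subtype.val e))) ⟨i, hit⟩
  have h1 : (⟨g * k * g⁻¹, h.conj_cent hx hg hk⟩ : C) =
      α ⟨i, hit⟩ (⟨f, hfc⟩ * ⟨k, hk⟩ * (⟨f, hfc⟩)⁻¹) := Subtype.ext (by
    show g * k * g⁻¹ = i * (f * k * f⁻¹) * i⁻¹
    rw [hf]; group)
  rw [h1, hinv, map_mul, map_mul, map_inv, mul_comm (S.χ ⟨f, hfc⟩), mul_inv_cancel_right]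

theorem cent_inter {a b : Sylow 2 G} (hab : a ≠ b) {t i y : G} (ht : Swaps t a b)
    (hi : i ∈ h.tor hab ht) (hi1 : i ≠ 1) (hy : y ∈ (a : Subgroup G)) (hc : i * y = y * i) :
    y = 1 := by
  obtain ⟨x, hx⟩ := h.exists_J a
  have key : ∀ s : G, s ∈ (a : Subgroup G) → s * s = 1 → i * s = s * i → s = 1 := by
    intro s hs hss hcs
    by_contra hs1
    have hso : orderOf s = 2 := orderOf_two_iff.2 ⟨hss, hs1⟩
    have : i ∈ centralizer ({x} : Set G) := by
      rw [← h.cent_const hx ⟨hs, hso⟩]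
      exact mem_centralizer_singleton_iff.2 hcs
    exact hi1 (h.inverted_cent hab ht hx hi.1 hi.2 this)
  have hyQ := hy
  rw [h.sylow_eq hx.2 hx.1, h.mem_Qs] at hyQ
  have h2 : y * y = 1 := key _ (mul_mem hy hy) (by
    rw [← hyQ.2, pow_succ, pow_succ, pow_succ, pow_one]; group)
    (Commute.mul_right hc hc)
  exact key y hy h2 hc

theorem exists_tor_ne_one {a b : Sylow 2 G} {t : G} (hab : a ≠ b) (ht : Swaps t a b) :
    ∃ i ∈ h.tor hab ht, i ≠ 1 := by
  by_contra hc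
  push Not at hc
  have h1 := h.card_tor hab ht
  rw [(eq_bot_iff_forall _).2 hc, card_bot] at h1
  have := h.two_lt
  omega

/-- The Sylow subgroup is transitive on the other points. -/
theorem exists_smul {a b c : Sylow 2 G} (hab : a ≠ b) (hca : c ≠ a) :
    ∃ y ∈ (a : Subgroup G), y • b = c := by
  classical
  obtain ⟨x, hx⟩ := h.exists_J a
  obtain ⟨t, ht⟩ := h.exists_swap hab
  obtain ⟨s, hs⟩ := h.exists_swap hca.symm
  obtain ⟨i, hi, hi1⟩ := h.exists_tor_ne_one hab ht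
  obtain ⟨j, hj, hjj, he⟩ := h.inverted_surj hca.symm hs hx (h.conj_mem_J (h.tor_le_stab _ _ hi) hx)
  have hjt : j ∈ h.tor hca.symm hs := ⟨hj, hjj⟩
  set C := centralizer ({x} : Set G)
  set S := h.shp hx.2
  -- `j` lies in the coset `i Q`
  have coset : ∀ {i' j' : G}, i' ∈ stabilizer G a → i' ^ (q - 1) = 1 → j' ^ (q - 1) = 1 →
      i'⁻¹ * j' ∈ C → i'⁻¹ * j' ∈ (a : Subgroup G) := by
    intro i' j' hia hip hjp hk
    set k := i'⁻¹ * j' with hkd
    have hrec : ∀ m : ℕ, ∃ hm : (i' ^ m)⁻¹ * (i' * k) ^ m ∈ C,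
        S.χ ⟨(i' ^ m)⁻¹ * (i' * k) ^ m, hm⟩ = S.χ ⟨k, hk⟩ ^ m := by
      intro m
      induction m with
      | zero =>
        refine ⟨by simp [one_mem], ?_⟩
        rw [pow_zero (S.χ ⟨k, hk⟩), ← map_one S.χ]
        congr 1
        exact Subtype.ext (by simp)
      | succ m ih =>
        obtain ⟨hm, hχ⟩ := ih
        have e : (i' ^ (m + 1))⁻¹ * (i' * k) ^ (m + 1) =
            i'⁻¹ * ((i' ^ m)⁻¹ * (i' * k) ^ m) * i'⁻¹⁻¹ * k := by
          rw [pow_succ (i' * k), pow_succ i']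
          group
        have hm' := h.conj_cent hx (inv_mem hia) hm
        refine ⟨by rw [e]; exact mul_mem hm' hk, ?_⟩
        rw [pow_succ (S.χ ⟨k, hk⟩), ← hχ, ← h.chi_conj hx (inv_mem hia) hm, ← map_mul]
        congr 1
        exact Subtype.ext e
    obtain ⟨hm, hχ⟩ := hrec (q - 1)
    have h1 : (⟨_, hm⟩ : C) = 1 := Subtype.ext (by
      show (i' ^ (q - 1))⁻¹ * (i' * k) ^ (q - 1) = 1
      rw [hip, hkd, mul_inv_cancel_left, hjp, inv_one, one_mul])
    rw [h1, map_one] at hχ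
    have h2 : S.χ ⟨k, hk⟩ = 1 := orderOf_eq_one_iff.1 (Nat.eq_one_of_dvd_coprimes h.coprime_q
      (orderOf_dvd_of_pow_eq_one hχ.symm) (orderOf_dvd_of_pow_eq_one (S.units_norm _)))
    rw [h.sylow_eq hx.2 hx.1]
    exact ⟨⟨k, hk⟩, h2, rfl⟩
  have hia := h.tor_le_stab hab ht hi
  have hia' : i ∈ normalizer ((a : Subgroup G) : Set G) :=
    Sylow.smul_eq_iff_mem_normalizer.1 (mem_stabilizer_iff.1 hia)
  have hk : i⁻¹ * j ∈ (a : Subgroup G) := coset hia ((h.mem_tor _ _).1 hi).2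
    ((h.mem_tor _ _).1 hjt).2 (by
      rw [mem_centralizer_singleton_iff]
      calc i⁻¹ * j * x = i⁻¹ * (j * x * j⁻¹) * j := by group
        _ = x * (i⁻¹ * j) := by rw [he]; group)
  -- conjugation by `a` covers the coset
  let f : ↥(a : Subgroup G) → ↥(a : Subgroup G) := fun y => ⟨i⁻¹ * (y : G) * i * (y : G)⁻¹, by
    refine mul_mem ?_ (inv_mem y.2)
    have := (mem_normalizer_iff.1 (inv_mem hia') y.1).1 y.2
    rwa [inv_inv] at this⟩
  have hf : Function.Bijective f := by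
    refine Finite.injective_iff_bijective.1 fun y z e => ?_
    have e' : i⁻¹ * (y : G) * i * (y : G)⁻¹ = i⁻¹ * (z : G) * i * (z : G)⁻¹ := congrArg Subtype.val e
    have h1 : (z : G)⁻¹ * (y : G) = 1 := h.cent_inter hab ht hi hi1 (mul_mem (inv_mem z.2) y.2) (by
      have e2 : (y : G) * i * (y : G)⁻¹ = (z : G) * i * (z : G)⁻¹ := by
        calc (y : G) * i * (y : G)⁻¹ = i * (i⁻¹ * (y : G) * i * (y : G)⁻¹) := by group
          _ = i * (i⁻¹ * (z : G) * i * (z : G)⁻¹) := by rw [e']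
          _ = _ := by group
      calc i * ((z : G)⁻¹ * (y : G)) = (z : G)⁻¹ * ((z : G) * i * (z : G)⁻¹) * (y : G) := by group
        _ = (z : G)⁻¹ * (y : G) * i := by rw [← e2]; group)
    exact Subtype.ext (inv_mul_eq_one.1 h1).symm
  obtain ⟨y, hy⟩ := hf.2 ⟨_, hk⟩
  have hjy : j = (y : G) * i * (y : G)⁻¹ := by
    have : i⁻¹ * (y : G) * i * (y : G)⁻¹ = i⁻¹ * j := congrArg Subtype.val hy
    calc j = i * (i⁻¹ * j) := by group
      _ = i * (i⁻¹ * (y : G) * i * (y : G)⁻¹) := by rw [← this]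
      _ = _ := by group
  have hya : (y : G)⁻¹ • a = a := by
    exact Sylow.smul_eq_iff_mem_normalizer.2 (le_normalizer (inv_mem y.2))
  set c' := (y : G)⁻¹ • c with hc'
  have hca' : c' ≠ a := fun e => hca (by
    rw [← hya, hc'] at e
    exact (smul_left_cancel _ e))
  have hic' : i ∈ DD a c' := by
    refine mem_DD.2 ⟨(mem_DD.1 hi.1).1, ?_⟩
    rw [show i = (y : G)⁻¹ * j * (y : G) by rw [hjy]; group, hc', mul_smul, smul_inv_smul, mul_smul,
      (mem_DD.1 hj).2]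
  refine ⟨y, y.2, ?_⟩
  suffices hb : c' = b by rw [← hb, hc', smul_inv_smul]
  by_contra hcb
  -- three points fixed by `i`
  obtain ⟨s', hs'⟩ := h.exists_swap hca'.symm
  obtain ⟨u, hu⟩ := h.exists_swap hcb
  have hiI : i ∈ h.tor hca'.symm hs' := (h.mem_tor _ _).2 ⟨hic', ((h.mem_tor _ _).1 hi).2⟩
  have hiU : i ∈ h.tor hcb hu := (h.mem_tor _ _).2
    ⟨mem_DD.2 ⟨(mem_DD.1 hic').2, (mem_DD.1 hi.1).2⟩, ((h.mem_tor _ _).1 hi).2⟩
  set g := t * u * s' with hg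
  have hga : g ∈ stabilizer G a := by
    rw [mem_stabilizer_iff, hg, mul_smul, mul_smul, hs'.2, hu.2, ht.back]
  have hgi : g * i * g⁻¹ = i⁻¹ := by
    rw [hg, mul_inv_rev, mul_inv_rev]
    calc t * u * s' * i * (s'⁻¹ * (u⁻¹ * t⁻¹)) = t * (u * (s' * i * s'⁻¹) * u⁻¹) * t⁻¹ := by group
      _ = t * (u * i * u⁻¹)⁻¹ * t⁻¹ := by rw [hiI.2]; group
      _ = t * i * t⁻¹ := by rw [hiU.2, inv_inv]
      _ = i⁻¹ := hi.2
  obtain ⟨d, hd, hdd, hde⟩ := h.inverted_surj hab ht hx (h.conj_mem_J hga hx)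
  set k := d⁻¹ * g with hkd
  have hkc : k ∈ C := by
    rw [mem_centralizer_singleton_iff, hkd]
    calc d⁻¹ * g * x = d⁻¹ * (g * x * g⁻¹) * g := by group
      _ = x * (d⁻¹ * g) := by rw [← hde]; group
  have hki : k * i * k⁻¹ = i⁻¹ := by
    have hcd : d * i = i * d := h.tor_comm hab ht ⟨hd, hdd⟩ hi
    rw [hkd]
    calc d⁻¹ * g * i * (d⁻¹ * g)⁻¹ = d⁻¹ * (g * i * g⁻¹) * d := by group
      _ = d⁻¹ * i⁻¹ * d := by rw [hgi]
      _ = (d⁻¹ * (i * d))⁻¹ * 1 := by group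
      _ = i⁻¹ := by rw [← hcd, inv_mul_cancel_left, mul_one]
  have hkJ : ∀ z, z ∈ (a : Subgroup G) ∧ orderOf z = 2 → k * z * k⁻¹ = z := by
    intro z hz
    have : k ∈ centralizer ({z} : Set G) := by rw [h.cent_const hx hz]; exact hkc
    rw [mem_centralizer_singleton_iff.1 this, mul_inv_cancel_right]
  have hkinv : k⁻¹ * x * k = x := by
    rw [mul_assoc, ← mem_centralizer_singleton_iff.1 hkc, inv_mul_cancel_left]
  have h1 : i⁻¹ * x * i = i * x * i⁻¹ := by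
    calc i⁻¹ * x * i = k * i * k⁻¹ * x * (k * i * k⁻¹)⁻¹ := by rw [hki, inv_inv]
      _ = k * (i * (k⁻¹ * x * k) * i⁻¹) * k⁻¹ := by group
      _ = k * (i * x * i⁻¹) * k⁻¹ := by rw [hkinv]
      _ = i * x * i⁻¹ := hkJ _ (h.conj_mem_J hia hx)
  have h2 : i * i ∈ centralizer ({x} : Set G) := by
    rw [mem_centralizer_singleton_iff]
    calc i * i * x = i * (i * x * i⁻¹) * i := by group
      _ = x * (i * i) := by rw [← h1]; group
  have h3 := h.inverted_cent hab ht hx (mul_mem hi.1 hi.1) (mul_mem hi hi : i * i ∈ h.tor hab ht).2 h2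
  obtain ⟨m, hm⟩ := h.odd_DD hab hi.1
  have h4 : i ^ orderOf i = 1 := pow_orderOf_eq_one i
  rw [hm, pow_succ, pow_mul, pow_two, h3, one_pow, one_mul] at h4
  exact hi1 h4

theorem card_points (a : Sylow 2 G) : Nat.card {c : Sylow 2 G // c ≠ a} = q ^ 3 := by
  obtain ⟨b, hb⟩ := h.exists_ne a
  rw [← h.card_sylow a]
  refine (Nat.card_eq_of_bijective (fun y : (a : Subgroup G) => (⟨(y : G) • b, fun e => hb ?_⟩ :
    {c : Sylow 2 G // c ≠ a})) ⟨fun y z e => ?_, fun c => ?_⟩).symm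
  · have hya : (y : G) • a = a := Sylow.smul_eq_iff_mem_normalizer.2 (le_normalizer y.2)
    exact smul_left_cancel _ (e.trans hya.symm)
  · have e' : (y : G) • b = (z : G) • b := congrArg Subtype.val e
    have h1 : (z : G)⁻¹ * (y : G) ∈ DD a b := by
      refine mem_DD.2 ⟨?_, by rw [mul_smul, e', inv_smul_smul]⟩
      exact Sylow.smul_eq_iff_mem_normalizer.2 (le_normalizer (mul_mem (inv_mem z.2) y.2))
    exact Subtype.ext (inv_mul_eq_one.1
      (h.eq_one_of_mem_DD hb.symm h1 (mul_mem (inv_mem z.2) y.2))).symm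
  · obtain ⟨y, hy, e⟩ := h.exists_smul hb.symm c.2
    exact ⟨⟨y, hy⟩, Subtype.ext e⟩

end Hyp

end CfsgLib.Known.UThreeEven
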