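import Cfsg.Agent.Lib.Known.UThreeEven.Ident
import Mathlib.FieldTheory.Finite.GaloisField

/-!
# Change of the field in `PGU₃`
-/

set_option autoImplicit false
set_option linter.all false

namespace CfsgLib.Known.UThreeEven

open Matrix

universe u v

variable {F : Type u} [Field F] {L : Type v} [Field L] (θ : F ≃+* L)

theorem herm_map {n q : ℕ} (u v : Fin n → F) :
    Cfsg.hermForm n L q (θ ∘ u) (θ ∘ v) = θ (Cfsg.hermForm n F q u v) := by
  simp only [Cfsg.hermForm, map_sum, map_mul, map_pow, Function.comp_apply]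

theorem mulVec_map {n : ℕ} (M : Matrix (Fin n) (Fin n) F) (u : Fin n → F) :
    θ.mapMatrix M *ᵥ (θ ∘ u) = θ ∘ (M *ᵥ u) := by
  funext i
  simp [Matrix.mulVec, dotProduct, map_sum, map_mul]

theorem gu_map_iff {n q : ℕ} (g : Matrix.GeneralLinearGroup (Fin n) F) :
    Units.mapEquiv θ.mapMatrix.toMulEquiv g ∈ Cfsg.GU n L q ↔ g ∈ Cfsg.GU n F q := by
  constructor
  · intro h u v
    apply θ.injective
    rw [← herm_map, ← herm_map]
    show Cfsg.hermForm n L q (θ ∘ ((g : Matrix (Fin n) (Fin n) F) *ᵥ u))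
      (θ ∘ ((g : Matrix (Fin n) (Fin n) F) *ᵥ v)) = _
    rw [← mulVec_map, ← mulVec_map]
    exact h _ _
  · intro h u v
    have hu : u = θ ∘ (θ.symm ∘ u) := funext fun i => (θ.apply_symm_apply _).symm
    have hv : v = θ ∘ (θ.symm ∘ v) := funext fun i => (θ.apply_symm_apply _).symm
    rw [hu, hv, herm_map]
    show Cfsg.hermForm n L q (θ.mapMatrix (g : Matrix (Fin n) (Fin n) F) *ᵥ (θ ∘ (θ.symm ∘ u)))
      (θ.mapMatrix (g : Matrix (Fin n) (Fin n) F) *ᵥ (θ ∘ (θ.symm ∘ v))) = _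
    rw [mulVec_map, mulVec_map, herm_map]
    exact congrArg θ (h _ _)

/-- `GU_n` over isomorphic fields. -/
noncomputable def guCongr (n q : ℕ) : Cfsg.GU n F q ≃* Cfsg.GU n L q :=
  ((Units.mapEquiv θ.mapMatrix.toMulEquiv).subgroupMap (Cfsg.GU n F q)).trans (MulEquiv.subgroupCongr (by
    ext g
    rw [Subgroup.mem_map]
    constructor
    · rintro ⟨k, hk, rfl⟩
      exact (gu_map_iff θ k).2 hk
    · intro hg
      obtain ⟨k, rfl⟩ := (Units.mapEquiv θ.mapMatrix.toMulEquiv).surjective g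
      exact ⟨k, (gu_map_iff θ k).1 hg, rfl⟩))

theorem map_center_eq {A B : Type*} [Group A] [Group B] (e : A ≃* B) :
    (Subgroup.center A).map (e : A →* B) = Subgroup.center B :=
  CfsgLib.Classical.Herm.map_center_of_equiv e

/-- The recognition theorem. -/
theorem main {G : Type u} [Group G] [Finite G] {F : Type v} [Field F] [Fintype F] [CharP F 2] {q : ℕ}
    (hq : 2 < q) (hF : Fintype.card F = q ^ 2) (heven : Even (Nat.card G))
    (hconj : ∀ s t : G, orderOf s = 2 → orderOf t = 2 → IsConj s t)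
    (hC : ∀ (x : G) (y : (↥(Cfsg.GU 3 F q) ⧸ Subgroup.center ↥(Cfsg.GU 3 F q))), orderOf x = 2 →
      orderOf y = 2 → Nonempty (↥(Subgroup.centralizer ({x} : Set G)) ≃*
        ↥(Subgroup.centralizer ({y} : Set (↥(Cfsg.GU 3 F q) ⧸ Subgroup.center ↥(Cfsg.GU 3 F q))))))
    (hS : ∀ P : Sylow 2 G, ¬ (P : Subgroup G).Normal) :
    Nonempty (G ≃* (↥(Cfsg.GU 3 F q) ⧸ Subgroup.center ↥(Cfsg.GU 3 F q))) := by
  obtain ⟨m, -, hm⟩ := FiniteField.card F 2
  have hqe : Even q := by
    rw [even_iff_two_dvd]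
    exact Nat.prime_two.dvd_of_dvd_pow (n := 2) (by rw [← hF, hm]; exact dvd_pow_self 2 m.ne_zero)
  obtain ⟨e⟩ := nonempty_pgu_equiv hF
  have hh : Hyp G F q := ⟨hF, hq, hqe, heven, hconj, hS, fun x hx => by
    obtain ⟨S⟩ := nonempty_shape hF
    obtain ⟨f⟩ := hC x (e.symm (elation hF)) hx (by rw [MulEquiv.orderOf_eq]; exact elation_order hF)
    exact ⟨S.map (f.trans ((e.subgroupMap _).trans (MulEquiv.subgroupCongr (by
      ext π
      rw [Subgroup.mem_map, Subgroup.mem_centralizer_singleton_iff]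
      constructor
      · rintro ⟨k, hk, rfl⟩
        have := congrArg e (Subgroup.mem_centralizer_singleton_iff.1 hk)
        simpa using this
      · intro hπ
        refine ⟨e.symm π, Subgroup.mem_centralizer_singleton_iff.2 (e.injective ?_), by simp⟩
        simpa using hπ))))⟩⟩
  set L := GaloisField 2 (m : ℕ) with hLdef
  haveI : Fintype L := Fintype.ofFinite _
  have hL : Fintype.card L = q ^ 2 := by
    rw [← hF, hm, ← Nat.card_eq_fintype_card, GaloisField.card 2 m m.ne_zero]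
  obtain ⟨f⟩ := hh.nonempty_equiv hL
  obtain ⟨eL⟩ := nonempty_pgu_equiv hL
  let θ : L ≃+* F := FiniteField.ringEquivOfCardEq (hL.trans hF.symm)
  exact ⟨(f.trans eL.symm).trans (QuotientGroup.congr _ _ (guCongr θ 3 q) (map_center_eq _))⟩

end CfsgLib.Known.UThreeEven
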